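import Cfsg.Agent.Lib.Chevalley.Graded
import Mathlib

/-!
Real linear forms on the roots: the action of the fundamental reflections, dominance.
-/

set_option autoImplicit false

namespace Cfsg.Agent.SimpleFacts.BorelTits

open Cfsg.Lie Cfsg.Agent.Chevalley.Table Cfsg.Agent.Chevalley.Cert Cfsg.Agent.Chevalley.Group
  Cfsg.Agent.Chevalley.Relations Cfsg.Agent.Chevalley.Diag Cfsg.Agent.Chevalley.Borel

variable {D : ChevalleyDatum} {T : Tab}

/-- The value at a root of the form with coordinates `a`. -/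
def wv (D : ChevalleyDatum) (a : ℕ → ℝ) (r : ℕ) : ℝ :=
  ∑ j ∈ Finset.range D.rank, a j * (D.cartan j r : ℝ)

/-- A function on roots given by a linear form. -/
def IsWt (D : ChevalleyDatum) (f : ℕ → ℝ) : Prop := ∃ a : ℕ → ℝ, ∀ r < D.nroots, f r = wv D a r

/-- A form non-negative on the fundamental roots. -/
def Dominant (D : ChevalleyDatum) (f : ℕ → ℝ) : Prop := ∀ i < D.rank, 0 ≤ f (D.simple i)

theorem isWt_wv (a : ℕ → ℝ) : IsWt D (wv D a) := ⟨a, fun _ _ => rfl⟩

theorem IsWt.average {f g : ℕ → ℝ} (hf : IsWt D f) (hg : IsWt D g) :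
    IsWt D (fun r => (f r + g r) / 2) := by
  obtain ⟨a, ha⟩ := hf
  obtain ⟨b, hb⟩ := hg
  refine ⟨fun j => (a j + b j) / 2, fun r hr => ?_⟩
  dsimp only
  rw [ha r hr, hb r hr, wv, wv, wv, ← Finset.sum_add_distrib, Finset.sum_div]
  exact Finset.sum_congr rfl fun j _ => by ring

theorem IsWt.neg {f : ℕ → ℝ} (hf : IsWt D f) : IsWt D (fun r => -f r) := by
  obtain ⟨a, ha⟩ := hf
  refine ⟨fun j => -a j, fun r hr => ?_⟩
  dsimp only
  rw [ha r hr, wv, wv, ← Finset.sum_neg_distrib]
  exact Finset.sum_congr rfl fun j _ => by ring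

variable (hC : Certified D T)
include hC

theorem wv_chain (a : ℕ → ℝ) {r s : ℕ} (hr : r < D.nroots) {k : ℕ} {q : ℕ × ℤ}
    (hq : (D.chainEntry r s)[k]? = some q) :
    wv D a q.1 = ((k : ℝ) + 1) * wv D a r + wv D a s := by
  rw [wv, wv, wv, Finset.mul_sum, ← Finset.sum_add_distrib]
  refine Finset.sum_congr rfl fun j hj => ?_
  rw [cartan_chain hC (Finset.mem_range.1 hj) hr hq]
  push_cast
  ring

theorem wv_commTerms (a : ℕ → ℝ) {r s : ℕ} (hr : r < D.nroots) (hs : s < D.nroots) :
    ∀ c ∈ D.commTerms r s, ∃ i j : ℕ, 1 ≤ i ∧ 1 ≤ j ∧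
      wv D a c.1 = i * wv D a r + j * wv D a s := by
  intro c hc
  have hroot : ∀ {x y m k : ℕ}, x < D.nroots → D.chainRoot x y m = some k →
      wv D a k = (((m - 1 : ℕ) : ℝ) + 1) * wv D a x + wv D a y := by
    intro x y m k hx h
    obtain ⟨q, hq, rfl⟩ := Option.map_eq_some_iff.1 h
    exact wv_chain hC a hx hq
  simp only [ChevalleyDatum.commTerms, List.mem_filterMap] at hc
  obtain ⟨x, hx, hxc⟩ := hc
  obtain ⟨k, hk, rfl⟩ := Option.map_eq_some_iff.1 hxc
  simp only [List.mem_cons, List.not_mem_nil, or_false] at hx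
  rcases hx with rfl | rfl | rfl | rfl | rfl | rfl | rfl
  · exact ⟨1, 1, le_rfl, le_rfl, by rw [hroot hr hk]; norm_num⟩
  · exact ⟨2, 1, by omega, le_rfl, by rw [hroot hr hk]; norm_num⟩
  · exact ⟨1, 2, le_rfl, by omega, by rw [hroot hs hk]; norm_num; ring⟩
  · exact ⟨3, 1, by omega, le_rfl, by rw [hroot hr hk]; norm_num⟩
  · exact ⟨1, 3, le_rfl, by omega, by rw [hroot hs hk]; norm_num; ring⟩
  · obtain ⟨m, hm, hmk⟩ := Option.bind_eq_some_iff.1 hk
    exact ⟨3, 2, by omega, by omega, by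
      rw [hroot (chainRoot_lt hC hr hm) hmk, hroot hr hm]; norm_num; ring⟩
  · obtain ⟨m, hm, hmk⟩ := Option.bind_eq_some_iff.1 hk
    exact ⟨2, 3, by omega, by omega, by
      rw [hroot (chainRoot_lt hC hs hm) hmk, hroot hs hm]; norm_num; ring⟩

theorem IsWt.commTerms {f : ℕ → ℝ} (hf : IsWt D f) {r s : ℕ} (hr : r < D.nroots)
    (hs : s < D.nroots) : ∀ c ∈ D.commTerms r s, ∃ i j : ℕ, 1 ≤ i ∧ 1 ≤ j ∧
      f c.1 = i * f r + j * f s := by
  obtain ⟨a, ha⟩ := hf
  intro c hc
  obtain ⟨i, j, hi, hj, e⟩ := wv_commTerms hC a hr hs c hc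
  exact ⟨i, j, hi, hj, by rw [ha _ (commTerms_lt hC hr hs c hc), ha r hr, ha s hs, e]⟩

theorem IsWt.apply_neg {f : ℕ → ℝ} (hf : IsWt D f) {r : ℕ} (hr : r < D.nroots) :
    f (D.neg r) = -f r := by
  obtain ⟨a, ha⟩ := hf
  rw [ha _ (hC.neg_lt hr), ha r hr, wv, wv, ← Finset.sum_neg_distrib]
  refine Finset.sum_congr rfl fun j hj => ?_
  rw [hC.cartan_neg hr (Finset.mem_range.1 hj)]
  push_cast
  ring

theorem wv_reflect (a : ℕ → ℝ) {i r : ℕ} (hi : i < D.rank) (hr : r < D.nroots) :
    wv D a (D.reflectRoot i r) = wv D a r - (D.cartan i r : ℝ) * wv D a (D.simple i) := by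
  rw [wv, wv, wv, Finset.mul_sum, ← Finset.sum_sub_distrib]
  refine Finset.sum_congr rfl fun j hj => ?_
  rw [hC.cartan_reflect hi (Finset.mem_range.1 hj) hr]
  push_cast
  ring

theorem IsWt.apply_reflect {f : ℕ → ℝ} (hf : IsWt D f) {i r : ℕ} (hi : i < D.rank)
    (hr : r < D.nroots) :
    f (D.reflectRoot i r) = f r - (D.cartan i r : ℝ) * f (D.simple i) := by
  obtain ⟨a, ha⟩ := hf
  rw [ha _ (hC.reflect_lt hi hr), ha r hr, ha _ (hC.simple_lt hi), wv_reflect hC a hi hr]

theorem IsWt.comp_reflect {f : ℕ → ℝ} (hf : IsWt D f) {i : ℕ} (hi : i < D.rank) :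
    IsWt D (fun r => f (D.reflectRoot i r)) := by
  obtain ⟨a, ha⟩ := hf
  refine ⟨fun j => if j = i then a j - wv D a (D.simple i) else a j, fun r hr => ?_⟩
  dsimp only
  rw [ha _ (hC.reflect_lt hi hr), wv_reflect hC a hi hr]
  have e : ∀ j, (if j = i then a j - wv D a (D.simple i) else a j) * (D.cartan j r : ℝ) =
      a j * (D.cartan j r : ℝ) -
        (if j = i then wv D a (D.simple i) * (D.cartan i r : ℝ) else 0) := by
    intro j
    split_ifs with h
    · subst h; ring
    · ring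
  conv_rhs => rw [wv]
  simp only [e]
  rw [Finset.sum_sub_distrib, Finset.sum_ite_eq', if_pos (Finset.mem_range.2 hi)]
  rw [mul_comm]
  rfl

theorem IsWt.comp_wL : ∀ {L : List ℕ}, (∀ i ∈ L, i < D.rank) → ∀ {f : ℕ → ℝ}, IsWt D f →
    IsWt D (fun r => f (wL D L r)) := by
  intro L
  induction L with
  | nil => exact fun _ f hf => hf
  | cons i L ih =>
    intro hL f hf
    exact ih (fun j hj => hL j (List.mem_cons_of_mem i hj))
      (hf.comp_reflect hC (hL i List.mem_cons_self))

theorem IsWt.pos_root {f : ℕ → ℝ} (hf : IsWt D f) {c : ℝ} (hc : 0 ≤ c)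
    (hs : ∀ i < D.rank, c ≤ f (D.simple i)) :
    ∀ r < D.nroots, 0 < T.phi r → c ≤ f r := by
  intro r
  induction r using Nat.strong_induction_on with
  | _ r ih =>
    intro hr hp
    obtain ⟨i, hi, h | ⟨h, -, hp', hlt⟩⟩ := descend hC hr hp
    · exact h ▸ hs i hi
    · have h1 := ih _ hlt (hC.reflect_lt hi hr) hp'
      rw [hf.apply_reflect hC hi hr] at h1
      have h2 : (0 : ℝ) ≤ (D.cartan i r : ℝ) * f (D.simple i) :=
        mul_nonneg (by exact_mod_cast h.le) (hc.trans (hs i hi))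
      linarith

theorem IsWt.nonneg {f : ℕ → ℝ} (hf : IsWt D f) (hd : Dominant D f) {r : ℕ} (hr : r < D.nroots)
    (hp : 0 < T.phi r) : 0 ≤ f r :=
  hf.pos_root hC le_rfl hd r hr hp

theorem IsWt.pos_of_one_le {f : ℕ → ℝ} (hf : IsWt D f) (hd : Dominant D f) {r : ℕ}
    (hr : r < D.nroots) (h1 : 1 ≤ f r) : 0 < T.phi r := by
  by_contra hn
  have hne := hC.phi_ne_zero hr
  have h2 := hf.nonneg hC hd (hC.neg_lt hr) (by rw [hC.phi_neg hr]; omega)
  rw [hf.apply_neg hC hr] at h2
  linarith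

theorem pair_reflect {i r : ℕ} (hi : i < D.rank) (hr : r < D.nroots) :
    pair D (D.reflectRoot i r) (D.simple i) = -pair D r (D.simple i) := by
  have hb : pair D r (D.simple i) =
      ∑ k ∈ Finset.range D.rank, cor D r k * D.cartan k (D.simple i) := rfl
  have e : ∀ j ∈ Finset.range D.rank,
      cor D (D.reflectRoot i r) j * D.cartan j (D.simple i) =
        cor D r j * D.cartan j (D.simple i) -
          (if j = i then pair D r (D.simple i) * D.cartan i (D.simple i) else 0) := by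
    intro j hj
    rw [hC.cor_reflect hi (Finset.mem_range.1 hj) hr, ← hb]
    split_ifs with h
    · subst h; ring
    · ring
  show ∑ j ∈ Finset.range D.rank, cor D (D.reflectRoot i r) j * D.cartan j (D.simple i) = _
  rw [Finset.sum_congr rfl e, Finset.sum_sub_distrib, Finset.sum_ite_eq',
    if_pos (Finset.mem_range.2 hi), ← hb, hC.cartan_simple hi]
  ring

/-- A form at least one on every positive root. -/
theorem exists_strict : ∃ f : ℕ → ℝ, IsWt D f ∧ ∀ r < D.nroots, 0 < T.phi r → 1 ≤ f r := by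
  classical
  let S := (Finset.range D.nroots).filter fun r => 0 < T.phi r
  have key : ∀ i < D.rank, ∑ r ∈ S, pair D r (D.simple i) = 2 := by
    intro i hi
    have hsi : D.simple i ∈ S :=
      Finset.mem_filter.2 ⟨Finset.mem_range.2 (hC.simple_lt hi), hC.phi_simple hi⟩
    rw [← Finset.add_sum_erase _ _ hsi, pair_self hC _ (hC.simple_lt hi)]
    have hmem : ∀ r ∈ S.erase (D.simple i), r ≠ D.simple i ∧ r < D.nroots ∧ 0 < T.phi r := by
      intro r hr
      obtain ⟨h1, h2⟩ := Finset.mem_erase.1 hr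
      obtain ⟨h3, h4⟩ := Finset.mem_filter.1 h2
      exact ⟨h1, Finset.mem_range.1 h3, h4⟩
    have h0 : ∑ r ∈ S.erase (D.simple i), pair D r (D.simple i) =
        ∑ r ∈ S.erase (D.simple i), -pair D r (D.simple i) := by
      refine Finset.sum_nbij' (D.reflectRoot i) (D.reflectRoot i) (fun r hr => ?_) (fun r hr => ?_)
        (fun r hr => hC.reflect_reflect hi (hmem r hr).2.1)
        (fun r hr => hC.reflect_reflect hi (hmem r hr).2.1) (fun r hr => ?_)
      rotate_right
      · rw [pair_reflect hC hi (hmem r hr).2.1, neg_neg]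
      all_goals
        obtain ⟨h1, h2, h3⟩ := hmem r hr
        refine Finset.mem_erase.2 ⟨fun e => ?_, Finset.mem_filter.2
          ⟨Finset.mem_range.2 (hC.reflect_lt hi h2), hC.reflect_pos hi h2 h1 h3⟩⟩
        have := hC.reflect_reflect hi h2
        rw [e, hC.reflect_simple hi] at this
        rw [← this, hC.phi_neg (hC.simple_lt hi)] at h3
        have := hC.phi_simple hi
        omega
    rw [Finset.sum_neg_distrib] at h0
    omega
  let a : ℕ → ℝ := fun j => ∑ r ∈ S, (cor D r j : ℝ)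
  refine ⟨wv D a, isWt_wv a, (isWt_wv a).pos_root hC zero_le_one fun i hi => ?_⟩
  have e : wv D a (D.simple i) = ((∑ r ∈ S, pair D r (D.simple i) : ℤ) : ℝ) := by
    simp only [wv, a, pair, Finset.sum_mul]
    push_cast
    rw [Finset.sum_comm]
  rw [e, key i hi]
  norm_num

/-- Some word makes a form dominant. -/
theorem exists_dominant {f : ℕ → ℝ} (hf : IsWt D f) :
    ∃ L : List ℕ, (∀ i ∈ L, i < D.rank) ∧ Dominant D (fun r => f (wL D L r)) := by
  classical
  suffices key : ∀ m : ℕ, ∀ f : ℕ → ℝ, IsWt D f →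
      ((Finset.range D.nroots).filter fun r => 0 < T.phi r ∧ f r < 0).card ≤ m →
      ∃ L : List ℕ, (∀ i ∈ L, i < D.rank) ∧ Dominant D (fun r => f (wL D L r)) from
    key _ f hf le_rfl
  intro m
  induction m with
  | zero =>
    intro f hf hm
    refine ⟨[], by simp, fun i hi => ?_⟩
    by_contra hlt
    have : D.simple i ∈ (Finset.range D.nroots).filter fun r => 0 < T.phi r ∧ f r < 0 :=
      Finset.mem_filter.2 ⟨Finset.mem_range.2 (hC.simple_lt hi), hC.phi_simple hi, not_le.1 hlt⟩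
    rw [Finset.card_eq_zero.1 (Nat.le_zero.1 hm)] at this
    exact absurd this (Finset.notMem_empty _)
  | succ m ih =>
    intro f hf hm
    by_cases hd : Dominant D f
    · exact ⟨[], by simp, hd⟩
    obtain ⟨i, hi, hlt⟩ : ∃ i < D.rank, f (D.simple i) < 0 := by
      by_contra hcon
      exact hd fun i hi => not_lt.1 fun h => hcon ⟨i, hi, h⟩
    have hmemf : D.simple i ∈ (Finset.range D.nroots).filter fun r => 0 < T.phi r ∧ f r < 0 :=
      Finset.mem_filter.2 ⟨Finset.mem_range.2 (hC.simple_lt hi), hC.phi_simple hi, hlt⟩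
    have hcard : ((Finset.range D.nroots).filter fun r =>
        0 < T.phi r ∧ f (D.reflectRoot i r) < 0).card ≤ m := by
      have h1 : ((Finset.range D.nroots).filter fun r =>
          0 < T.phi r ∧ f (D.reflectRoot i r) < 0).card ≤
          (((Finset.range D.nroots).filter fun r => 0 < T.phi r ∧ f r < 0).erase (D.simple i)).card := by
        refine Finset.card_le_card_of_injOn (D.reflectRoot i) (fun r hr => ?_) ?_
        · simp only [Finset.coe_filter, Finset.mem_range, Set.mem_ofPred_eq] at hr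
          obtain ⟨hr, hp, hneg⟩ := hr
          have hne : r ≠ D.simple i := by
            rintro rfl
            rw [hC.reflect_simple hi, hf.apply_neg hC (hC.simple_lt hi)] at hneg
            linarith
          refine Finset.mem_erase.2 ⟨fun e => ?_, Finset.mem_filter.2
            ⟨Finset.mem_range.2 (hC.reflect_lt hi hr), hC.reflect_pos hi hr hne hp, hneg⟩⟩
          have := hC.reflect_reflect hi hr
          rw [e, hC.reflect_simple hi] at this
          rw [← this, hC.phi_neg (hC.simple_lt hi)] at hp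
          have := hC.phi_simple hi
          omega
        · intro x hx y hy e
          simp only [Finset.coe_filter, Finset.mem_range, Set.mem_ofPred_eq] at hx hy
          rw [← hC.reflect_reflect hi hx.1, e, hC.reflect_reflect hi hy.1]
      rw [Finset.card_erase_of_mem hmemf] at h1
      omega
    obtain ⟨L, hL, hdom⟩ := ih _ (hf.comp_reflect hC hi) hcard
    exact ⟨i :: L, fun j hj => (List.mem_cons.1 hj).elim (fun e => e ▸ hi) (hL j), hdom⟩

end Cfsg.Agent.SimpleFacts.BorelTits
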