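import Cfsg.Agent.Lib.Chevalley.NormalForm
import Cfsg.Agent.Lib.Chevalley.Parabolic
import Cfsg.Agent.SimpleFacts.BorelTits.Weights

/-!
The subgroups `U(f ≥ 1)` attached to a form on the roots.
-/

set_option autoImplicit false

open scoped Matrix

namespace Cfsg.Agent.SimpleFacts.BorelTits

open Cfsg.Lie Cfsg.Agent.Chevalley.Table Cfsg.Agent.Chevalley.Cert Cfsg.Agent.Chevalley.Group
  Cfsg.Agent.Chevalley.Relations Cfsg.Agent.Chevalley.Unip Cfsg.Agent.Chevalley.Borel
  Cfsg.Agent.Chevalley.Weyl Cfsg.Agent.Chevalley.NormalForm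

variable {D : ChevalleyDatum} {F : Type*} [Field F] {T : Tab}

/-- The subgroup generated by the root elements of the roots satisfying `P`. -/
abbrev XSub (hC : Certified D T) (F : Type*) [Field F] (P : ℕ → Prop) : Subgroup (GL D.Idx F) :=
  Subgroup.closure {g : GL D.Idx F | ∃ (r : ℕ) (t : F), r < D.nroots ∧ P r ∧ g = xg hC r t}

/-- A set of positive roots absorbing sums with arbitrary positive roots. -/
def Absorbing (D : ChevalleyDatum) (T : Tab) (P : ℕ → Prop) : Prop :=
  (∀ r < D.nroots, P r → 0 < T.phi r) ∧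
    ∀ r < D.nroots, ∀ s < D.nroots, 0 < T.phi r → P s → ∀ c ∈ D.commTerms r s, P c.1

variable (hC : Certified D T)
include hC

theorem xg_mem_XSub {P : ℕ → Prop} {r : ℕ} (hr : r < D.nroots) (h : P r) (t : F) :
    xg hC r t ∈ XSub hC F P :=
  Subgroup.subset_closure ⟨r, t, hr, h, rfl⟩

theorem XSub_mono {P Q : ℕ → Prop} (h : ∀ r < D.nroots, P r → Q r) :
    XSub hC F P ≤ XSub hC F Q :=
  Subgroup.closure_mono fun _ ⟨r, t, hr, hP, e⟩ => ⟨r, t, hr, h r hr hP, e⟩

theorem XSub_le_U {P : ℕ → Prop} (hP : ∀ r < D.nroots, P r → 0 < T.phi r) :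
    XSub hC F P ≤ D.posUnipotent F := by
  rw [U_eq_closure hC]
  exact XSub_mono hC hP

theorem conj_xg_XSub {P : ℕ → Prop} (hP : Absorbing D T P) {r : ℕ} (hr : r < D.nroots)
    (hp : 0 < T.phi r) (t : F) {g : GL D.Idx F} (hg : g ∈ XSub hC F P) :
    xg hC r t * g * (xg hC r t)⁻¹ ∈ XSub hC F P := by
  induction hg using Subgroup.closure_induction with
  | mem g hg =>
    obtain ⟨s, u, hs, hPs, rfl⟩ := hg
    by_cases hsr : s = r
    · subst hsr
      rw [← xg_add hC, xg_inv hC, ← xg_add hC]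
      exact xg_mem_XSub hC hs hPs _
    · have hps := hP.1 s hs hPs
      have hsn : s ≠ D.neg r := by
        rintro rfl
        rw [hC.phi_neg hr] at hps
        omega
      have h := xg_comm hC hr hs hsr hsn (-t) u
      rw [← xg_inv hC r t] at h
      have e : xg hC r t * xg hC s u * (xg hC r t)⁻¹ = xg hC s u *
          ((D.commWord F r s (-t) u).map fun p => xg hC p.1 p.2).prod := by
        calc _ = xg hC r t * (xg hC s u * (xg hC r t)⁻¹) := by rw [mul_assoc]
          _ = _ := by rw [h]; simp only [← mul_assoc, mul_inv_cancel, one_mul]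
      rw [e]
      refine mul_mem (xg_mem_XSub hC hs hPs u) (list_prod_mem fun x hx => ?_)
      obtain ⟨p, hp', rfl⟩ := List.mem_map.1 hx
      simp only [ChevalleyDatum.commWord, List.mem_map] at hp'
      obtain ⟨c, hc, rfl⟩ := hp'
      exact xg_mem_XSub hC (commTerms_lt hC hr hs c hc) (hP.2 r hr s hs hp hPs c hc) _
  | one => simp
  | mul x y _ _ ihx ihy =>
    have e : xg hC r t * (x * y) * (xg hC r t)⁻¹ =
        xg hC r t * x * (xg hC r t)⁻¹ * (xg hC r t * y * (xg hC r t)⁻¹) := by group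
    rw [e]; exact mul_mem ihx ihy
  | inv x _ ih =>
    have e : xg hC r t * x⁻¹ * (xg hC r t)⁻¹ = (xg hC r t * x * (xg hC r t)⁻¹)⁻¹ := by group
    rw [e]; exact inv_mem ih

theorem conj_U_XSub {P : ℕ → Prop} (hP : Absorbing D T P) {u g : GL D.Idx F}
    (hu : u ∈ D.posUnipotent F) (hg : g ∈ XSub hC F P) : u * g * u⁻¹ ∈ XSub hC F P := by
  rw [U_eq_closure hC] at hu
  induction hu using Subgroup.closure_induction_left generalizing g with
  | one => simpa using hg
  | mul_left x hx y _ ih =>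
    obtain ⟨s, t, hs, hps, rfl⟩ := hx
    have e : xg hC s t * y * g * (xg hC s t * y)⁻¹ = xg hC s t * (y * g * y⁻¹) * (xg hC s t)⁻¹ := by
      group
    rw [e]; exact conj_xg_XSub hC hP hs hps t (ih hg)
  | inv_mul_cancel x hx y _ ih =>
    obtain ⟨s, t, hs, hps, rfl⟩ := hx
    rw [xg_inv hC]
    have e : xg hC s (-t) * y * g * (xg hC s (-t) * y)⁻¹ =
        xg hC s (-t) * (y * g * y⁻¹) * (xg hC s (-t))⁻¹ := by group
    rw [e]; exact conj_xg_XSub hC hP hs hps (-t) (ih hg)

theorem conj_B_XSub {P : ℕ → Prop} (hP : Absorbing D T P) {b g : GL D.Idx F}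
    (hb : b ∈ D.borelSubgroup F) (hg : g ∈ XSub hC F P) : b * g * b⁻¹ ∈ XSub hC F P := by
  obtain ⟨u, hu, h, hh, rfl⟩ := (mem_B_iff hC).1 hb
  have h1 := (Subgroup.mem_normalizer_iff.1 (H_le_normalizer hC (P := P) hh) g).1 hg
  rw [show u * h * g * (u * h)⁻¹ = u * (h * g * h⁻¹) * u⁻¹ by group]
  exact conj_U_XSub hC hP hu h1

theorem absorbing_ge {P : ℕ → Prop} (hP : Absorbing D T P) (a : ℕ) :
    Absorbing D T (fun r => P r ∧ a ≤ r) := by
  refine ⟨fun r hr h => hP.1 r hr h.1, fun r hr s hs hp h c hc => ?_⟩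
  refine ⟨hP.2 r hr s hs hp h.1 c hc, ?_⟩
  obtain ⟨hk, i, j, hi, hj, hphi⟩ := commTerms_phi hC hr hs c hc
  have hps := hP.1 s hs h.1
  have h1 : T.phi r + T.phi s ≤ T.phi c.1 := by
    rw [hphi]
    exact add_le_add (le_mul_of_one_le_left hp.le (by exact_mod_cast hi))
      (le_mul_of_one_le_left hps.le (by exact_mod_cast hj))
  have h2 := (hC.phi_lt_iff hs hk).1 (by omega)
  have := h.2
  omega

/-- Every element is an ordered product supported on the roots in question. -/
theorem exists_supp {P : ℕ → Prop} (hP : Absorbing D T P) {u : GL D.Idx F}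
    (hu : u ∈ XSub hC F P) :
    ∃ t : ℕ → F, u = prodX hC D.posRoots t ∧ ∀ r, ¬ P r → t r = 0 := by
  classical
  suffices key : ∀ k a, D.nroots ≤ a + k → ∀ u ∈ XSub hC F (fun r => P r ∧ a ≤ r),
      ∃ t : ℕ → F, u = prodX hC (posFrom D a) t ∧ ∀ r, ¬ P r → t r = 0 by
    obtain ⟨t, ht, h0⟩ := key D.nroots 0 (by omega) u
      (XSub_mono hC (fun r _ h => ⟨h, Nat.zero_le r⟩) hu)
    exact ⟨t, by rw [ht, posFrom_zero], h0⟩
  intro k
  induction k with
  | zero =>
    intro a ha u hu
    have hbot : XSub hC F (fun r => P r ∧ a ≤ r) = ⊥ := by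
      rw [eq_bot_iff, Subgroup.closure_le]
      rintro g ⟨r, t, hr, ⟨-, h⟩, -⟩
      omega
    rw [hbot, Subgroup.mem_bot] at hu
    refine ⟨0, ?_, fun r _ => rfl⟩
    have : posFrom D a = [] := List.eq_nil_iff_forall_not_mem.2 fun r hr => by
      have := (mem_posFrom hC).1 hr; omega
    simp [this, hu, prodX]
  | succ k ih =>
    intro a hak u hu
    by_cases hp : a < D.nroots ∧ 0 < T.phi a
    swap
    · rw [posFrom_skip hC hp]
      refine ih (a + 1) (by omega) u (XSub_mono hC (fun r hr h => ⟨h.1, ?_⟩) hu)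
      rcases Nat.eq_or_lt_of_le h.2 with rfl | h'
      · exact absurd ⟨hr, hP.1 _ hr h.1⟩ hp
      · exact h'
    obtain ⟨ha, hp⟩ := hp
    have hpeel : ∃ x : F, (¬ P a → x = 0) ∧ ∃ v ∈ XSub hC F (fun r => P r ∧ a + 1 ≤ r),
        u = xg hC a x * v := by
      have hA := absorbing_ge hC hP (a + 1)
      induction hu using Subgroup.closure_induction with
      | mem g hg =>
        obtain ⟨s, t, hs, ⟨hPs, has⟩, rfl⟩ := hg
        rcases Nat.eq_or_lt_of_le has with rfl | h
        · exact ⟨t, fun h => absurd hPs h, 1, one_mem _, (mul_one _).symm⟩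
        · exact ⟨0, fun _ => rfl, _, xg_mem_XSub hC hs ⟨hPs, h⟩ t, by rw [xg_zero hC, one_mul]⟩
      | one => exact ⟨0, fun _ => rfl, 1, one_mem _, by rw [xg_zero hC, one_mul]⟩
      | mul x y _ _ ihx ihy =>
        obtain ⟨t, ht, v, hv, rfl⟩ := ihx
        obtain ⟨t', ht', v', hv', rfl⟩ := ihy
        refine ⟨t + t', fun h => by rw [ht h, ht' h, add_zero],
          (xg hC a t')⁻¹ * v * xg hC a t' * v', mul_mem ?_ hv', ?_⟩
        · have := conj_xg_XSub hC hA ha hp (-t') hv
          rwa [← xg_inv hC, inv_inv] at this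
        · rw [xg_add hC]; group
      | inv x _ ih =>
        obtain ⟨t, ht, v, hv, rfl⟩ := ih
        refine ⟨-t, fun h => by rw [ht h, neg_zero],
          xg hC a t * v⁻¹ * (xg hC a t)⁻¹, conj_xg_XSub hC hA ha hp t (inv_mem hv), ?_⟩
        rw [← xg_inv hC a t]; group
    obtain ⟨x, hx, v, hv, rfl⟩ := hpeel
    obtain ⟨f, hf, hf0⟩ := ih (a + 1) (by omega) v hv
    refine ⟨Function.update f a x, ?_, fun r hr => ?_⟩
    · rw [posFrom_cons hC ha hp]
      show _ = prodX hC (a :: posFrom D (a + 1)) (Function.update f a x)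
      have e : prodX hC (posFrom D (a + 1)) (Function.update f a x) = v := by
        rw [hf]
        refine prodX_congr hC fun r hr => Function.update_of_ne ?_ x f
        have := ((mem_posFrom hC).1 hr).2.2
        omega
      rw [prodX, List.map_cons, List.prod_cons, Function.update_self]
      exact congrArg _ e.symm
    · by_cases hra : r = a
      · subst hra; rw [Function.update_self]; exact hx hr
      · rw [Function.update_of_ne hra]; exact hf0 r hr

theorem prodX_single [DecidableEq ℕ] {a : ℕ} (x : F) :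
    ∀ L : List ℕ, L.Nodup → a ∈ L → prodX hC L (Pi.single a x) = xg hC a x := by
  intro L
  induction L with
  | nil => intro _ h; exact absurd h List.not_mem_nil
  | cons b L ih =>
    intro hn hm
    obtain ⟨hb, hn⟩ := List.nodup_cons.1 hn
    rw [prodX, List.map_cons, List.prod_cons]
    rcases List.mem_cons.1 hm with rfl | hm
    · rw [Pi.single_eq_same]
      have : (L.map fun r => xg hC r ((Pi.single a x : ℕ → F) r)).prod = 1 := by
        refine List.prod_eq_one fun g hg => ?_
        obtain ⟨r, hr, rfl⟩ := List.mem_map.1 hg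
        rw [Pi.single_eq_of_ne (by rintro rfl; exact hb hr), xg_zero hC]
      rw [this, mul_one]
    · rw [Pi.single_eq_of_ne (by rintro rfl; exact hb hm), xg_zero hC, one_mul]
      exact ih hn hm

/-- In a product of distinct positive root elements lying in `X(P)`, only roots in `P` occur. -/
theorem coeff_eq_zero {P : ℕ → Prop} (hP : Absorbing D T P) {L : List ℕ} (hL : L.Nodup)
    (hpos : ∀ r ∈ L, r < D.nroots ∧ 0 < T.phi r) {t : ℕ → F} (hm : prodX hC L t ∈ XSub hC F P) :
    ∀ r ∈ L, ¬ P r → t r = 0 := by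
  classical
  by_contra hcon
  simp only [not_forall] at hcon
  have hex : ∃ r, r ∈ L ∧ ¬ P r ∧ t r ≠ 0 := by
    obtain ⟨r, h1, h2, h3⟩ := hcon
    exact ⟨r, h1, h2, h3⟩
  obtain ⟨ha, hPa, hta⟩ := Nat.find_spec hex
  have hmin : ∀ r ∈ L, r < Nat.find hex → ¬ P r → t r = 0 := fun r hr hlt hn => by
    by_contra h
    exact Nat.find_min hex hlt ⟨hr, hn, h⟩
  generalize Nat.find hex = a at ha hPa hta hmin
  obtain ⟨halt, hap⟩ := hpos a ha
  let Q : ℕ → Prop := fun r => P r ∨ (0 < T.phi r ∧ a < r)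
  have hQ : Absorbing D T Q := by
    refine ⟨fun r hr h => h.elim (hP.1 r hr) And.left, fun r hr s hs hp h c hc => ?_⟩
    rcases h with h | ⟨hps, has⟩
    · exact Or.inl (hP.2 r hr s hs hp h c hc)
    · obtain ⟨hk, i, j, hi, hj, hphi⟩ := commTerms_phi hC hr hs c hc
      have h1 : T.phi r + T.phi s ≤ T.phi c.1 := by
        rw [hphi]
        exact add_le_add (le_mul_of_one_le_left hp.le (by exact_mod_cast hi))
          (le_mul_of_one_le_left hps.le (by exact_mod_cast hj))
      have h2 := (hC.phi_lt_iff hs hk).1 (by omega)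
      exact Or.inr ⟨by omega, by omega⟩
  obtain ⟨L₁, L₂, rfl⟩ := List.append_of_mem ha
  have hmem : ∀ r ∈ L₁ ++ a :: L₂, r ≠ a → xg hC r (t r) ∈ XSub hC F Q := by
    intro r hr hne
    by_cases hPr : P r
    · exact xg_mem_XSub hC (hpos r hr).1 (Or.inl hPr) _
    · rcases lt_or_gt_of_ne hne with h | h
      · rw [hmin r hr h hPr, xg_zero hC]; exact one_mem _
      · exact xg_mem_XSub hC (hpos r hr).1 (Or.inr ⟨(hpos r hr).2, h⟩) _
  have hd := List.nodup_append.1 hL
  have ha1 : a ∉ L₁ := fun h => hd.2.2 a h a List.mem_cons_self rfl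
  have ha2 : a ∉ L₂ := (List.nodup_cons.1 hd.2.1).1
  have h1 : prodX hC L₁ t ∈ XSub hC F Q := by
    refine list_prod_mem fun g hg => ?_
    obtain ⟨r, hr, rfl⟩ := List.mem_map.1 hg
    exact hmem r (List.mem_append_left _ hr) (by rintro rfl; exact ha1 hr)
  have h2 : prodX hC L₂ t ∈ XSub hC F Q := by
    refine list_prod_mem fun g hg => ?_
    obtain ⟨r, hr, rfl⟩ := List.mem_map.1 hg
    exact hmem r (List.mem_append_right _ (List.mem_cons_of_mem a hr)) (by rintro rfl; exact ha2 hr)
  have e : prodX hC (L₁ ++ a :: L₂) t = prodX hC L₁ t * xg hC a (t a) * prodX hC L₂ t := by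
    simp [prodX, mul_assoc]
  have hx : xg hC a (t a) ∈ XSub hC F Q := by
    have h3 := mul_mem (mul_mem (inv_mem h1) (XSub_mono hC (fun r _ h => Or.inl h) hm)) (inv_mem h2)
    rw [e] at h3
    simpa [mul_assoc] using h3
  obtain ⟨f, hf, hf0⟩ := exists_supp hC hQ hx
  have haR : a ∈ D.posRoots := (mem_posRoots hC).2 ⟨halt, hap⟩
  rw [← prodX_single hC (t a) D.posRoots (posRoots_sorted.imp ne_of_lt) haR] at hf
  have := prodX_inj hC posRoots_sorted (fun r hr => (mem_posRoots hC).1 hr) hf a haR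
  rw [Pi.single_eq_same, hf0 a (by rintro (h | ⟨-, h⟩); exacts [hPa h, lt_irrefl a h])] at this
  exact hta this

theorem conj_monomial_XSub {P Q : ℕ → Prop} {L : List ℕ} (hL : ∀ i ∈ L, i < D.rank) (c : ℕ → Fˣ)
    (h : ∀ r < D.nroots, P r → Q (wL D L r)) {g : GL D.Idx F} (hg : g ∈ XSub hC F P) :
    tor D c * nL hC F L * g * (tor D c * nL hC F L)⁻¹ ∈ XSub hC F Q := by
  have hle : XSub hC F P ≤
      (XSub hC F Q).comap (MulAut.conj (tor D c * nL hC F L)).toMonoidHom := by
    refine (Subgroup.closure_le _).2 ?_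
    rintro x ⟨r, t, hr, hP, rfl⟩
    obtain ⟨η, -, e⟩ := conj_xg (F := F) hC hL c hr
    show tor D c * nL hC F L * xg hC r t * (tor D c * nL hC F L)⁻¹ ∈ XSub hC F Q
    rw [e]
    exact xg_mem_XSub hC (wL_lt hC hL hr) (h r hr hP) _
  exact hle hg

/-- The roots where a form is at least one. -/
theorem absorbing_form {f : ℕ → ℝ} (hf : IsWt D f) (hd : Dominant D f) :
    Absorbing D T (fun r => 1 ≤ f r) := by
  refine ⟨fun r hr h => hf.pos_of_one_le hC hd hr h, fun r hr s hs hp h c hc => ?_⟩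
  obtain ⟨i, j, -, hj, e⟩ := hf.commTerms hC hr hs c hc
  have h1 : (0 : ℝ) ≤ (i : ℝ) * f r := mul_nonneg (Nat.cast_nonneg i) (hf.nonneg hC hd hr hp)
  have h2 : (1 : ℝ) * 1 ≤ (j : ℝ) * f s :=
    mul_le_mul (by exact_mod_cast hj) h zero_le_one (Nat.cast_nonneg j)
  show 1 ≤ f c.1
  linarith

/-- An element of two `X(f ≥ 1)` lies in that of the mean. -/
theorem mem_average {f : ℕ → ℝ} (hf : IsWt D f) (hd : Dominant D f) {M : List ℕ}
    (hM : ∀ i ∈ M, i < D.rank) {u : GL D.Idx F} (h1 : u ∈ XSub hC F (fun r => 1 ≤ f r))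
    (h2 : u ∈ XSub hC F (fun r => 1 ≤ f (wL D M r))) :
    u ∈ XSub hC F (fun r => 1 ≤ (f r + f (wL D M r)) / 2) := by
  classical
  have hA := absorbing_form hC hf hd
  have hpU : XSub hC F (fun r => 1 ≤ f r) ≤ D.posUnipotent F := XSub_le_U hC hA.1
  have hmu : nL hC F M * u * (nL hC F M)⁻¹ ∈ XSub hC F (fun r => 1 ≤ f r) := by
    have := conj_monomial_XSub hC hM 1 (Q := fun r => 1 ≤ f r) (fun r _ h => h) h2
    rwa [tor_one, one_mul] at this
  have hu : u ∈ D.posUnipotent F := hpU h1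
  rw [← Uge_zero hC] at hu
  obtain ⟨t, ht⟩ := split_decomp hC (fun r => decide (0 < T.phi (wL D M r))) 0 u hu
  have heta : ∀ r, ∃ η : F, r < D.nroots → η ≠ 0 ∧ ∀ x : F,
      nL hC F M * xg hC r x * (nL hC F M)⁻¹ = xg hC (wL D M r) (η * x) := by
    intro r
    by_cases hr : r < D.nroots
    · obtain ⟨η, h⟩ := nL_conj_x (F := F) hC hM hr
      exact ⟨η, fun _ => h⟩
    · exact ⟨0, fun h => absurd h hr⟩
  choose η hη using heta
  have hMr : ∀ i ∈ M.reverse, i < D.rank := fun i hi => hM i (List.mem_reverse.1 hi)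
  have hback : ∀ r < D.nroots, wL D M.reverse (wL D M r) = r := fun r hr =>
    wL_reverse hC hM hr
  -- the inverted part
  have hw : nL hC F M * prodX hC ((posFrom D 0).filter fun r =>
      !decide (0 < T.phi (wL D M r))).reverse t * (nL hC F M)⁻¹ ∈ D.negUnipotent F := by
    have hle : prodX hC ((posFrom D 0).filter fun r =>
        !decide (0 < T.phi (wL D M r))).reverse t ∈
        (D.negUnipotent F).comap (MulAut.conj (nL hC F M)).toMonoidHom := by
      refine list_prod_mem fun g hg => ?_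
      obtain ⟨r, hr, rfl⟩ := List.mem_map.1 hg
      obtain ⟨hr', hq⟩ := List.mem_filter.1 (List.mem_reverse.1 hr)
      have hlt := ((mem_posFrom hC).1 hr').1
      show nL hC F M * xg hC r (t r) * (nL hC F M)⁻¹ ∈ D.negUnipotent F
      rw [(hη r hlt).2]
      refine xg_mem_V hC (wL_lt hC hM hlt) ?_ _
      have := hC.phi_ne_zero (wL_lt hC hM hlt)
      simp only [Bool.not_eq_true', decide_eq_false_iff_not] at hq
      omega
    exact hle
  obtain ⟨K, hK⟩ : ∃ K, K = (posFrom D 0).filter fun r => decide (0 < T.phi (wL D M r)) := ⟨_, rfl⟩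
  rw [← hK] at ht
  have hKmem : ∀ r ∈ K, r < D.nroots ∧ 0 < T.phi r ∧ 0 < T.phi (wL D M r) := by
    intro r hr
    rw [hK] at hr
    obtain ⟨hr', hq⟩ := List.mem_filter.1 hr
    exact ⟨((mem_posFrom hC).1 hr').1, ((mem_posFrom hC).1 hr').2.1, of_decide_eq_true hq⟩
  -- the image of the kept part
  let t' : ℕ → F := fun s => η (wL D M.reverse s) * t (wL D M.reverse s)
  have himg : ∀ L : List ℕ, (∀ r ∈ L, r < D.nroots) →
      nL hC F M * prodX hC L t * (nL hC F M)⁻¹ = prodX hC (L.map (wL D M)) t' := by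
    intro L
    induction L with
    | nil => intro _; simp [prodX]
    | cons b L ih =>
      intro hb
      have hb' := hb b List.mem_cons_self
      simp only [prodX, List.map_cons, List.prod_cons] at ih ⊢
      rw [← ih fun r hr => hb r (List.mem_cons_of_mem b hr),
        show t' (wL D M b) = η b * t b by simp only [t', hback b hb'], ← (hη b hb').2]
      group
  have hv : prodX hC (K.map (wL D M)) t' ∈ D.posUnipotent F := by
    rw [U_eq_closure hC]
    refine list_prod_mem fun g hg => ?_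
    obtain ⟨s, hs, rfl⟩ := List.mem_map.1 hg
    obtain ⟨r, hr, rfl⟩ := List.mem_map.1 hs
    exact xg_mem_XSub hC (wL_lt hC hM (hKmem r hr).1) (hKmem r hr).2.2 _
  have hw1 : prodX hC ((posFrom D 0).filter fun r =>
      !decide (0 < T.phi (wL D M r))).reverse t = 1 := by
    refine (MulAut.conj (nL hC F M)).injective ?_
    rw [map_one, MulAut.conj_apply]
    refine U_inf_V hC ?_ hw
    have h3 := mul_mem (inv_mem hv) (hpU hmu)
    rw [← himg K fun r hr => (hKmem r hr).1, ht] at h3
    convert h3 using 1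
    group
  rw [hw1, mul_one] at ht
  have hK1 : K.Nodup := by
    rw [hK]; exact ((posFrom_sorted 0).filter _).imp ne_of_lt
  have hK2 : (K.map (wL D M)).Nodup :=
    List.Nodup.map_on (fun x hx y hy e => by
      rw [← hback x (hKmem x hx).1, e, hback y (hKmem y hy).1]) hK1
  have hc1 := coeff_eq_zero hC hA hK1 (fun r hr => ⟨(hKmem r hr).1, (hKmem r hr).2.1⟩)
    (show prodX hC K t ∈ _ from ht ▸ h1)
  have hc2 := coeff_eq_zero hC hA hK2 (t := t') (by
      intro s hs
      obtain ⟨r, hr, rfl⟩ := List.mem_map.1 hs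
      exact ⟨wL_lt hC hM (hKmem r hr).1, (hKmem r hr).2.2⟩)
    (by rw [← himg K fun r hr => (hKmem r hr).1, ← ht]; exact hmu)
  rw [ht]
  refine list_prod_mem fun g hg => ?_
  obtain ⟨r, hr, rfl⟩ := List.mem_map.1 hg
  by_cases htr : t r = 0
  · rw [htr, xg_zero hC]; exact one_mem _
  have hr' := (hKmem r hr).1
  have e1 : 1 ≤ f r := by
    by_contra h
    exact htr (hc1 r hr h)
  have e2 : 1 ≤ f (wL D M r) := by
    by_contra h
    have := hc2 _ (List.mem_map_of_mem hr) h
    rw [show t' (wL D M r) = η r * t r by simp only [t', hback r hr']] at this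
    exact mul_ne_zero (hη r hr').1 htr this
  refine xg_mem_XSub hC hr' ?_ _
  show 1 ≤ (f r + f (wL D M r)) / 2
  linarith

/-- The monomial elements fixing a dominant form lie in its parabolic subgroup. -/
theorem nL_mem_parabolic {f : ℕ → ℝ} (hf : IsWt D f) (hd : Dominant D f) :
    ∀ {L : List ℕ}, (∀ i ∈ L, i < D.rank) → (∀ r < D.nroots, f (wL D L r) = f r) →
      nL hC F L ∈ D.parabolicSubgroup F {j | f (D.simple j) = 0} := by
  suffices key : ∀ m : ℕ, ∀ L : List ℕ, L.length = m → (∀ i ∈ L, i < D.rank) →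
      (∀ r < D.nroots, f (wL D L r) = f r) →
      nL hC F L ∈ D.parabolicSubgroup F {j | f (D.simple j) = 0} from
    fun {L} hL h => key _ L rfl hL h
  intro m
  induction m using Nat.strong_induction_on with
  | _ m ih =>
    intro L hm hL hfix
    by_cases hpos : ∀ i < D.rank, 0 < T.phi (wL D L (D.simple i))
    · obtain ⟨c, hc⟩ := exists_tor_of_pos (F := F) hC hL hpos
      rw [hc]
      exact Subgroup.mem_sup_left (Subgroup.mem_sup_right (tor_mem_H hC c))
    obtain ⟨i, hi, hneg⟩ : ∃ i < D.rank, T.phi (wL D L (D.simple i)) < 0 := by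
      by_contra hcon
      refine hpos fun i hi => ?_
      by_contra h
      have := hC.phi_ne_zero (wL_lt hC hL (hC.simple_lt hi))
      exact hcon ⟨i, hi, by omega⟩
    have hlt := wL_lt hC hL (hC.simple_lt hi)
    have hf0 : f (D.simple i) = 0 := by
      refine le_antisymm ?_ (hd i hi)
      have h1 := hf.nonneg hC hd (hC.neg_lt hlt) (by rw [hC.phi_neg hlt]; omega)
      rw [hf.apply_neg hC hlt, hfix _ (hC.simple_lt hi)] at h1
      linarith
    obtain ⟨k, hk, c, e⟩ := exists_delete (F := F) hC hL hi hneg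
    have hL' : ∀ j ∈ L.eraseIdx k, j < D.rank := fun j hj => hL j (List.eraseIdx_subset hj)
    have hLi : ∀ j ∈ L ++ [i], j < D.rank := fun j hj => (List.mem_append.1 hj).elim (hL j)
      fun hj => (List.mem_singleton.1 hj) ▸ hi
    have hfix' : ∀ r < D.nroots, f (wL D (L.eraseIdx k) r) = f r := by
      intro r hr
      rw [← wL_congr hC (F := F) (c := 1) (c' := c) hLi hL'
        (by rw [tor_one, one_mul, nL_append, nL_singleton, e]) hr, wL_append,
        show wL D [i] r = D.reflectRoot i r from rfl, hfix _ (hC.reflect_lt hi hr),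
        hf.apply_reflect hC hi hr, hf0, mul_zero, sub_zero]
    have h1 := ih _ (by rw [List.length_eraseIdx_of_lt hk]; omega) _ rfl hL' hfix'
    rw [show nL hC F L = tor D c * nL hC F (L.eraseIdx k) * (ng hC (D.simple i) (1 : F))⁻¹ from
      eq_mul_inv_of_mul_eq e]
    exact mul_mem (mul_mem (Subgroup.mem_sup_left (Subgroup.mem_sup_right (tor_mem_H hC c))) h1)
      (inv_mem (Cfsg.Agent.Chevalley.Parabolic.ng_mem_parabolic hC hi hf0))

end Cfsg.Agent.SimpleFacts.BorelTits
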