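import Cfsg.Agent.SimpleFacts.ChevalleySylow
import Cfsg.Agent.SimpleFacts.BorelTits.Filtration
import Mathlib

/-!
The normaliser of a non-trivial `p`-subgroup lies in a parabolic subgroup: the shortest form pushing
the subgroup into `U(f ≥ 1)` is unique.
-/

set_option autoImplicit false

namespace Cfsg.Agent.SimpleFacts.BorelTits

open Cfsg.Lie Cfsg.Agent.Chevalley.Table Cfsg.Agent.Chevalley.Cert Cfsg.Agent.Chevalley.Group
  Cfsg.Agent.Chevalley.Unip Cfsg.Agent.Chevalley.Borel Cfsg.Agent.Chevalley.Weyl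
  Cfsg.Agent.Chevalley.NormalForm

variable {D : ChevalleyDatum} {F : Type*} [Field F] {T : Tab}

/-- The subgroup is conjugate into `U(f ≥ 1)`. -/
def Feasible (hC : Certified D T) (Q : Subgroup (GL D.Idx F)) (f : ℕ → ℝ) : Prop :=
  ∃ g ∈ D.group F, ∀ q ∈ Q, g⁻¹ * q * g ∈ XSub hC F (fun r => 1 ≤ f r)

/-- The squared length of a form. -/
def energy (D : ChevalleyDatum) (f : ℕ → ℝ) : ℝ := ∑ r : Fin D.nroots, f r ^ 2

variable (hC : Certified D T)
include hC

theorem feasible_comp {Q : Subgroup (GL D.Idx F)} {f : ℕ → ℝ} {L : List ℕ}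
    (hL : ∀ i ∈ L, i < D.rank) (h : Feasible hC Q f) :
    Feasible hC Q (fun r => f (wL D L r)) := by
  obtain ⟨g, hg, hq⟩ := h
  have hLr : ∀ i ∈ L.reverse, i < D.rank := fun i hi => hL i (List.mem_reverse.1 hi)
  refine ⟨g * (nL hC F L.reverse)⁻¹,
    mul_mem hg (inv_mem (N_le_group hC (nL_mem_N hC hLr))), fun q hqQ => ?_⟩
  have h1 := conj_monomial_XSub hC hLr 1 (Q := fun r => 1 ≤ f (wL D L r))
    (fun r hr h => by
      have := wL_reverse hC hLr hr
      rw [List.reverse_reverse] at this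
      rwa [this]) (hq q hqQ)
  rw [tor_one, one_mul] at h1
  simpa [mul_assoc] using h1

theorem energy_comp {L : List ℕ} (hL : ∀ i ∈ L, i < D.rank) (f : ℕ → ℝ) :
    energy D (fun r => f (wL D L r)) = energy D f := by
  let e : Fin D.nroots → Fin D.nroots := fun r => ⟨wL D L r, wL_lt hC hL r.2⟩
  have he : Function.Bijective e := Finite.injective_iff_bijective.1 fun a b h => by
    have h' : wL D L a = wL D L b := Fin.ext_iff.1 h
    exact Fin.ext (wL_injective hC hL a.2 b.2 h')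
  exact he.sum_comp (fun r : Fin D.nroots => f r ^ 2)

/-- Among the feasible forms one is shortest; it may be taken dominant. -/
theorem exists_minimal {Q : Subgroup (GL D.Idx F)} {f₀ : ℕ → ℝ} (hf₀ : IsWt D f₀)
    (h₀ : Feasible hC Q f₀) :
    ∃ f : ℕ → ℝ, IsWt D f ∧ Dominant D f ∧ Feasible hC Q f ∧
      ∀ g : ℕ → ℝ, IsWt D g → Feasible hC Q g → energy D f ≤ energy D g := by
  classical
  let A : (Fin D.rank → ℝ) →ₗ[ℝ] (Fin D.nroots → ℝ) :=
    { toFun := fun a r => ∑ j : Fin D.rank, a j * (D.cartan j r : ℝ)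
      map_add' := fun a b => by
        funext r
        simp [add_mul, Finset.sum_add_distrib]
      map_smul' := fun c a => by
        funext r
        simp [Finset.mul_sum, mul_assoc] }
  let Sel : Finset (Fin D.nroots) → Prop := fun Ψ => ∃ g ∈ D.group F, ∀ q ∈ Q,
    g⁻¹ * q * g ∈ XSub hC F (fun r => ∃ h : r < D.nroots, (⟨r, h⟩ : Fin D.nroots) ∈ Ψ)
  let En : (Fin D.nroots → ℝ) → ℝ := fun x => ∑ r, x r ^ 2
  -- the set of feasible forms, as vectors
  let S : Set (Fin D.nroots → ℝ) := (LinearMap.range A : Set (Fin D.nroots → ℝ)) ∩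
    ⋃ Ψ ∈ {Ψ : Finset (Fin D.nroots) | Sel Ψ}, {x | ∀ r ∈ Ψ, 1 ≤ x r}
  have toS : ∀ g : ℕ → ℝ, IsWt D g → Feasible hC Q g →
      (fun r : Fin D.nroots => g r) ∈ S := by
    rintro g ⟨a, ha⟩ ⟨x, hx, hq⟩
    refine ⟨⟨fun j => a j, ?_⟩, ?_⟩
    · funext r
      show ∑ j : Fin D.rank, a j * (D.cartan j r : ℝ) = g r
      rw [ha r r.2, wv, Finset.sum_range]
    · refine Set.mem_iUnion₂.2 ⟨Finset.univ.filter fun r : Fin D.nroots => 1 ≤ g r,
        ⟨x, hx, fun q hqQ => ?_⟩, fun r hr => (Finset.mem_filter.1 hr).2⟩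
      exact XSub_mono hC
        (fun r hr h => ⟨hr, Finset.mem_filter.2 ⟨Finset.mem_univ _, h⟩⟩) (hq q hqQ)
  have ofS : ∀ x ∈ S, ∃ g : ℕ → ℝ, IsWt D g ∧ Feasible hC Q g ∧ energy D g = En x := by
    rintro x ⟨⟨b, rfl⟩, hx⟩
    obtain ⟨Ψ, ⟨y, hy, hq⟩, hΨ⟩ := Set.mem_iUnion₂.1 hx
    let a : ℕ → ℝ := fun j => if h : j < D.rank then b ⟨j, h⟩ else 0
    have hval : ∀ r : Fin D.nroots, wv D a r = A b r := by
      intro r
      show _ = ∑ j : Fin D.rank, b j * (D.cartan j r : ℝ)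
      rw [wv, Finset.sum_range]
      exact Finset.sum_congr rfl fun j _ => by simp [a]
    refine ⟨wv D a, isWt_wv a, ⟨y, hy, fun q hqQ => XSub_mono hC ?_ (hq q hqQ)⟩, ?_⟩
    · rintro r - ⟨hr, hr'⟩
      have := hΨ ⟨r, hr⟩ hr'
      rwa [← hval] at this
    · exact Finset.sum_congr rfl fun r _ => by rw [hval r]
  let x₀ : Fin D.nroots → ℝ := fun r => f₀ r
  have hx₀ : x₀ ∈ S := toS f₀ hf₀ h₀
  have hEc : Continuous En := continuous_finsetSum _ fun r _ => (continuous_apply r).pow 2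
  have hclosed : IsClosed S := by
    refine (Submodule.closed_of_finiteDimensional _).inter ?_
    refine Set.Finite.isClosed_biUnion (Set.toFinite _) fun Ψ _ => ?_
    have e : {x : Fin D.nroots → ℝ | ∀ r ∈ Ψ, 1 ≤ x r} = ⋂ r ∈ Ψ, {x | 1 ≤ x r} := by
      ext x; simp
    rw [e]
    exact isClosed_biInter fun r _ => isClosed_le continuous_const (continuous_apply r)
  have hK : IsCompact (S ∩ {x | En x ≤ En x₀}) := by
    refine (isCompact_closedBall (0 : Fin D.nroots → ℝ) (Real.sqrt (En x₀))).of_isClosed_subset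
      (hclosed.inter (isClosed_le hEc continuous_const)) ?_
    rintro x ⟨-, hx⟩
    rw [mem_closedBall_zero_iff, pi_norm_le_iff_of_nonneg (Real.sqrt_nonneg _)]
    intro r
    rw [Real.norm_eq_abs]
    refine Real.abs_le_sqrt ?_
    exact (Finset.single_le_sum (f := fun r => x r ^ 2) (fun r _ => sq_nonneg (x r))
      (Finset.mem_univ r)).trans hx
  obtain ⟨x, ⟨hxS, hx0⟩, hmin⟩ :=
    hK.exists_isMinOn ⟨x₀, hx₀, le_refl (En x₀)⟩ hEc.continuousOn
  have hall : ∀ y ∈ S, En x ≤ En y := by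
    intro y hy
    by_cases h : En y ≤ En x₀
    · exact hmin ⟨hy, h⟩
    · exact le_trans hx0 (le_of_lt (not_le.1 h))
  obtain ⟨g, hg, hgF, hgE⟩ := ofS x hxS
  obtain ⟨L, hL, hdom⟩ := exists_dominant hC hg
  refine ⟨_, hg.comp_wL hC hL, hdom, feasible_comp hC hL hgF, fun g' hg' hF' => ?_⟩
  rw [energy_comp hC hL, hgE]
  exact hall _ (toS g' hg' hF')

omit hC in
theorem eq_of_energy {f g : ℕ → ℝ} (h : energy D g = energy D f)
    (hm : energy D f ≤ energy D (fun r => (f r + g r) / 2)) :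
    ∀ r < D.nroots, g r = f r := by
  intro r hr
  simp only [energy] at h hm
  have e : ∑ r : Fin D.nroots, ((f r - g r) / 2) ^ 2 =
      (∑ r : Fin D.nroots, f r ^ 2) / 2 + (∑ r : Fin D.nroots, g r ^ 2) / 2 -
        ∑ r : Fin D.nroots, ((f r + g r) / 2) ^ 2 := by
    rw [Finset.sum_div, Finset.sum_div, ← Finset.sum_add_distrib, ← Finset.sum_sub_distrib]
    exact Finset.sum_congr rfl fun r _ => by ring
  have h0 : ∑ r : Fin D.nroots, ((f r - g r) / 2) ^ 2 = 0 :=
    le_antisymm (by rw [e]; linarith) (Finset.sum_nonneg fun r _ => sq_nonneg _)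
  have h1 := (Finset.sum_eq_zero_iff_of_nonneg fun r _ => sq_nonneg _).1 h0 ⟨r, hr⟩
    (Finset.mem_univ _)
  rw [sq_eq_zero_iff, div_eq_zero_iff] at h1
  rcases h1 with h1 | h1
  · exact (sub_eq_zero.1 h1).symm
  · norm_num at h1

/-- The normaliser lies in the parabolic of the shortest dominant form. -/
theorem normalizer_le {Q : Subgroup (GL D.Idx F)} {f : ℕ → ℝ} (hf : IsWt D f) (hd : Dominant D f)
    (hmin : ∀ g : ℕ → ℝ, IsWt D g → Feasible hC Q g → energy D f ≤ energy D g)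
    {g₁ : GL D.Idx F} (hg₁ : g₁ ∈ D.group F)
    (hq : ∀ q ∈ Q, g₁⁻¹ * q * g₁ ∈ XSub hC F (fun r => 1 ≤ f r))
    {h : GL D.Idx F} (hN : h ∈ Subgroup.normalizer (Q : Set (GL D.Idx F))) (hG : h ∈ D.group F) :
    g₁⁻¹ * h * g₁ ∈ D.parabolicSubgroup F {j | f (D.simple j) = 0} := by
  have hA := absorbing_form hC hf hd
  obtain ⟨b, hb, n, hn, u, hu, e⟩ := exists_form hC (mul_mem (mul_mem (inv_mem hg₁) hG) hg₁)
  have hu' : u ∈ D.borelSubgroup F := Subgroup.mem_sup_left (Uminus_le_U hC n hu)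
  obtain ⟨c, L, hL, rfl⟩ := (mem_N_iff hC).1 hn
  have hLr : ∀ i ∈ L.reverse, i < D.rank := fun i hi => hL i (List.mem_reverse.1 hi)
  have havg : Feasible hC Q (fun r => (f r + f (wL D L.reverse r)) / 2) := by
    refine ⟨g₁ * b, mul_mem hg₁ (B_le_group hC hb), fun q hqQ => ?_⟩
    have h1 : (g₁ * b)⁻¹ * q * (g₁ * b) ∈ XSub hC F (fun r => 1 ≤ f r) := by
      have := conj_B_XSub hC hA (inv_mem hb) (hq q hqQ)
      simpa [mul_assoc] using this
    refine mem_average hC hf hd hLr h1 ?_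
    have hqh : h⁻¹ * q * h ∈ Q := by
      have := (Subgroup.mem_normalizer_iff.1 (inv_mem hN) q).1 hqQ
      simpa using this
    have h2 := conj_B_XSub hC hA hu' (hq _ hqh)
    have h3 := conj_monomial_XSub hC hL c (Q := fun r => 1 ≤ f (wL D L.reverse r))
      (fun r hr h => by rwa [wL_reverse hC hL hr]) h2
    convert h3 using 1
    rw [show h = g₁ * (b * (tor D c * nL hC F L) * u) * g₁⁻¹ by rw [← e]; group]
    group
  have hw : IsWt D (fun r => f (wL D L.reverse r)) := hf.comp_wL hC hLr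
  have heq := eq_of_energy (energy_comp hC hLr f) (hmin _ (hf.average hw) havg)
  have hfix : ∀ r < D.nroots, f (wL D L r) = f r := fun r hr => by
    have := heq _ (wL_lt hC hL hr)
    rw [wL_reverse hC hL hr] at this
    exact this.symm
  rw [e]
  exact mul_mem (mul_mem (Subgroup.mem_sup_left hb)
      (mul_mem (Subgroup.mem_sup_left (Subgroup.mem_sup_right (tor_mem_H hC c)))
        (nL_mem_parabolic hC hf hd hL hfix)))
    (Subgroup.mem_sup_left hu')

theorem apply_inRootSub {f : ℕ → ℝ} (hf : IsWt D f) :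
    ∀ r, D.InRootSub {j | f (D.simple j) = 0} r → 0 < T.phi r → f r = 0 := by
  intro r
  induction r using Nat.strong_induction_on with
  | _ r ih =>
    intro hr hp
    obtain ⟨j, hj, hjJ, h | ⟨hlt, hp', hJ⟩⟩ :=
      Cfsg.Agent.Chevalley.Parabolic.descend_inRootSub hC hr hp
    · exact h ▸ hjJ
    · have h1 := ih _ hlt hJ hp'
      have h2 : f (D.simple j) = 0 := hjJ
      rwa [hf.apply_reflect hC hj hr.1, h2, mul_zero, sub_zero] at h1

theorem XSub_le_radical {f : ℕ → ℝ} (hf : IsWt D f) (hd : Dominant D f) :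
    XSub hC F (fun r => 1 ≤ f r) ≤ D.unipotentRadical F {j | f (D.simple j) = 0} := by
  refine Subgroup.closure_mono ?_
  rintro g ⟨r, t, hr, h, rfl⟩
  have hp := hf.pos_of_one_le hC hd hr h
  refine ⟨r, t, (hC.posRoot_iff hr).2 hp, fun hJ => ?_, coe_xg hC r t⟩
  rw [apply_inRootSub hC hf r hJ hp] at h
  norm_num at h

omit hC in
theorem radical_all_eq_bot {J : Set ℕ} (h : ∀ i < D.rank, i ∈ J) :
    D.unipotentRadical F J = ⊥ := by
  rw [eq_bot_iff, ChevalleyDatum.unipotentRadical, Subgroup.closure_le]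
  rintro g ⟨r, t, hr, hJ, -⟩
  exact absurd ⟨hr.1, fun i hi hiJ => absurd (h i hi) hiJ⟩ hJ

omit hC in
theorem borel_tits [Fintype F] (p : ℕ) [Fact p.Prime] [CharP F p] (D : ChevalleyDatum)
    (hD : D ∈ [chevG2, chevB2, chevD4, chevF4, chevE6, chevE7, chevE8])
    (U : Subgroup (GL D.Idx F)) (hUG : U ≤ D.group F) (hU : IsPGroup p ↥U) (hne : U ≠ ⊥) :
    ∃ g ∈ D.group F, ∃ J : Set ℕ, (∃ i, i < D.rank ∧ i ∉ J) ∧
      Subgroup.normalizer (U : Set (GL D.Idx F)) ⊓ D.group F ≤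
        (D.parabolicSubgroup F J).map (MulAut.conj g).toMonoidHom ∧
      U ≤ (D.unipotentRadical F J).map (MulAut.conj g).toMonoidHom := by
  classical
  have : Finite (D.group F) := inferInstance
  obtain ⟨T, hC⟩ := Cfsg.Agent.Chevalley.Types.All.exists_certified hD
  obtain ⟨P, hP⟩ := SimpleFacts.ChevalleySylow.exists_sylow (F := F) p D hD
  have hU' : IsPGroup p (U.subgroupOf (D.group F)) :=
    hU.of_equiv (Subgroup.subgroupOfEquivOfLe hUG).symm
  obtain ⟨P', hP'⟩ := hU'.exists_le_sylow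
  obtain ⟨x, hx⟩ := MulAction.exists_smul_eq (D.group F) P' P
  obtain ⟨f₀, hf₀, hone⟩ := exists_strict hC
  have h₀ : Feasible hC U f₀ := by
    refine ⟨(x : GL D.Idx F)⁻¹, inv_mem x.2, fun q hq => ?_⟩
    have h1 : x * ⟨q, hUG hq⟩ * x⁻¹ ∈ (P : Subgroup (D.group F)) := by
      rw [← hx, Sylow.smul_def, Sylow.pointwise_smul_def]
      exact Subgroup.smul_mem_pointwise_smul _ (MulAut.conj x) _ (hP' (by simpa [Subgroup.mem_subgroupOf] using hq))
    rw [hP, Subgroup.mem_subgroupOf] at h1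
    simp only [Subgroup.coe_mul, Subgroup.coe_inv, U_eq_closure hC] at h1
    rw [inv_inv]
    exact XSub_mono hC (fun r hr hp => hone r hr hp) h1
  obtain ⟨f, hf, hd, ⟨g, hg, hq⟩, hmin⟩ := exists_minimal hC hf₀ h₀
  refine ⟨g, hg, {j | f (D.simple j) = 0}, ?_, ?_, ?_⟩
  · by_contra hcon
    have hall : ∀ i < D.rank, i ∈ ({j | f (D.simple j) = 0} : Set ℕ) := fun i hi => by
      by_contra h; exact hcon ⟨i, hi, h⟩
    refine hne ((Subgroup.eq_bot_iff_forall _).2 fun q hqU => ?_)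
    have h1 := XSub_le_radical hC hf hd (hq q hqU)
    rw [radical_all_eq_bot hall, Subgroup.mem_bot] at h1
    calc q = g * (g⁻¹ * q * g) * g⁻¹ := by group
      _ = 1 := by rw [h1]; group
  · rintro h ⟨hN, hG⟩
    refine Subgroup.mem_map.2 ⟨g⁻¹ * h * g, normalizer_le hC hf hd hmin hg hq hN hG, ?_⟩
    simp [mul_assoc]
  · intro q hqU
    refine Subgroup.mem_map.2 ⟨g⁻¹ * q * g, XSub_le_radical hC hf hd (hq q hqU), ?_⟩
    simp [mul_assoc]

end Cfsg.Agent.SimpleFacts.BorelTits
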