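import Cfsg.Agent.Lib.Chevalley.Order
import Cfsg.Agent.Lib.Chevalley.StConj
import Cfsg.Agent.Lib.Chevalley.Twist.Build
import Mathlib

/-!
The order of a standard parabolic subgroup from a checked list of the words in its letters.
-/

set_option autoImplicit false

open scoped Matrix

namespace Cfsg.Agent.SimpleFacts.BorelTits

open Cfsg.Lie Cfsg.Agent.Chevalley.Table Cfsg.Agent.Chevalley.Check Cfsg.Agent.Chevalley.Cert
  Cfsg.Agent.Chevalley.Group Cfsg.Agent.Chevalley.Unip Cfsg.Agent.Chevalley.Borel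
  Cfsg.Agent.Chevalley.Weyl Cfsg.Agent.Chevalley.Bruhat Cfsg.Agent.Chevalley.NormalForm
  Cfsg.Agent.Chevalley.WeylEnum

/-- The images of the fundamental roots under a word. -/
noncomputable def simpleImg (T : Tab) (L : List ℕ) : List ℕ :=
  (List.range T.l).map fun i => Cfsg.Agent.Chevalley.Twist.applyW T L (T.simple i)

/-- The number of positive roots a word makes negative. -/
noncomputable def negCount (T : Tab) (L : List ℕ) : ℕ :=
  ((Finset.range T.n).filter fun r =>
    0 < T.phi r ∧ T.phi (Cfsg.Agent.Chevalley.Twist.applyW T L r) < 0).card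

/-- `E` lists the words in the letters `J`, one for each action on the roots. -/
structure WordList (T : Tab) (J : List ℕ) (E : List (List ℕ)) : Prop where
  lt : ∀ i ∈ J, i < T.l
  letters : ∀ e ∈ E, ∀ i ∈ e, i ∈ J
  nil_mem : [] ∈ E
  step : ∀ e ∈ E, ∀ i ∈ J, ∃ e' ∈ E, simpleImg T (i :: e) = simpleImg T e'
  distinct : (E.map (simpleImg T)).Nodup

variable {D : ChevalleyDatum} {F : Type*} [Field F] {T : Tab} (hC : Certified D T)
include hC

theorem simpleImg_eq {L : List ℕ} (hL : ∀ i ∈ L, i < D.rank) :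
    simpleImg T L = (List.range D.rank).map fun i => wL D L (D.simple i) := by
  rw [simpleImg, hC.l_eq]
  refine List.map_congr_left fun i hi => ?_
  rw [List.mem_range] at hi
  rw [hC.simple_eq hi]
  exact Cfsg.Agent.Chevalley.StConj.actT_foldr hC hL (hC.simple_lt hi)

theorem eqv_of_simpleImg {L L' : List ℕ} (hL : ∀ i ∈ L, i < D.rank) (hL' : ∀ i ∈ L', i < D.rank)
    (h : simpleImg T L = simpleImg T L') : Eqv D L L' := by
  rw [simpleImg_eq hC hL, simpleImg_eq hC hL'] at h
  exact eqv_of_simple hC hL hL' fun i hi =>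
    (List.map_inj_left.1 h) i (List.mem_range.2 hi)

theorem simpleImg_of_eqv {L L' : List ℕ} (hL : ∀ i ∈ L, i < D.rank) (hL' : ∀ i ∈ L', i < D.rank)
    (h : Eqv D L L') : simpleImg T L = simpleImg T L' := by
  rw [simpleImg_eq hC hL, simpleImg_eq hC hL']
  exact List.map_congr_left fun i hi => h _ (hC.simple_lt (List.mem_range.1 hi))

theorem negCount_eq {L : List ℕ} (hL : ∀ i ∈ L, i < D.rank) :
    negCount T L = (invSet D T L).card := by
  rw [negCount, invSet, hC.n_eq]
  congr 1
  refine Finset.filter_congr fun r hr => ?_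
  rw [show Cfsg.Agent.Chevalley.Twist.applyW T L r = wL D L r from
    Cfsg.Agent.Chevalley.StConj.actT_foldr hC hL (Finset.mem_range.1 hr)]

theorem WordList.rank_lt {J : List ℕ} {E : List (List ℕ)} (hE : WordList T J E) :
    ∀ e ∈ E, ∀ i ∈ e, i < D.rank := fun e he i hi => by
  rw [← hC.l_eq]
  exact hE.lt i (hE.letters e he i hi)

/-- Every element of the parabolic subgroup lies in one of the listed cells. -/
theorem mem_cells {J : List ℕ} {E : List (List ℕ)} (hE : WordList T J E) {g : GL D.Idx F}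
    (hg : g ∈ D.parabolicSubgroup F {i | i ∈ J}) :
    ∃ e ∈ E, ∃ b ∈ D.borelSubgroup F, ∃ b' ∈ D.borelSubgroup F, g = b * nL hC F e * b' := by
  have hJr : ∀ i ∈ J, i < D.rank := fun i hi => hC.l_eq ▸ hE.lt i hi
  let X : GL D.Idx F → Prop := fun g =>
    ∃ e ∈ E, ∃ b ∈ D.borelSubgroup F, ∃ b' ∈ D.borelSubgroup F, g = b * nL hC F e * b'
  have hB : ∀ b ∈ D.borelSubgroup F, ∀ x, X x → X (b * x) := by
    rintro b hb x ⟨e, he, c, hc, c', hc', rfl⟩
    exact ⟨e, he, b * c, mul_mem hb hc, c', hc', by group⟩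
  have hn : ∀ i ∈ J, ∀ x, X x → X (ng hC (D.simple i) 1 * x) := by
    rintro i hi x ⟨e, he, c, hc, c', hc', rfl⟩
    have her := hE.rank_lt hC e he
    rcases mul_mem_union hC (hJr i hi) (nL_mem_N (F := F) hC her) hc with h | h
    · obtain ⟨p, hp, p', hp', h'⟩ := DoubleCoset.mem_doubleCoset.1 h
      obtain ⟨e', he', himg⟩ := hE.step e he i hi
      have hie : ∀ j ∈ i :: e, j < D.rank := fun j hj =>
        (List.mem_cons.1 hj).elim (fun h => h ▸ hJr i hi) (her j)
      obtain ⟨d, hd⟩ := Cfsg.Agent.Chevalley.Order.nL_eq_tor_mul (F := F) hC hie (hE.rank_lt hC e' he')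
        (eqv_of_simpleImg hC hie (hE.rank_lt hC e' he') himg)
      rw [nL_cons] at hd
      refine ⟨e', he', p * tor D d, mul_mem hp (Subgroup.mem_sup_right (tor_mem_H hC d)), p' * c',
        mul_mem hp' hc', ?_⟩
      rw [← mul_assoc, ← mul_assoc, h', hd]
      group
    · obtain ⟨p, hp, p', hp', h'⟩ := DoubleCoset.mem_doubleCoset.1 h
      refine ⟨e, he, p, hp, p' * c', mul_mem hp' hc', ?_⟩
      rw [← mul_assoc, ← mul_assoc, h']
      group
  suffices key : ∀ x, X x → X (g * x) by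
    have h1 := key 1 ⟨[], hE.nil_mem, 1, one_mem _, 1, one_mem _, by simp [nL]⟩
    rwa [mul_one] at h1
  rw [ChevalleyDatum.parabolicSubgroup, ← Subgroup.closure_eq (D.borelSubgroup F),
    ← Subgroup.closure_union] at hg
  induction hg using Subgroup.closure_induction'' with
  | mem y hy =>
    rcases hy with hy | ⟨j, hj, hjr, hy⟩
    · exact hB y hy
    · rw [show y = ng hC (D.simple j) 1 from Units.ext (hy.trans (coe_ng hC _ _).symm)]
      exact hn j hj
  | inv_mem y hy =>
    rcases hy with hy | ⟨j, hj, hjr, hy⟩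
    · exact hB y⁻¹ (inv_mem hy)
    · intro x hx
      rw [show y = ng hC (D.simple j) 1 from Units.ext (hy.trans (coe_ng hC _ _).symm)]
      obtain ⟨c, hc⟩ := ng_sq (F := F) hC hjr
      have e : (ng hC (D.simple j) (1 : F))⁻¹ = (tor D c)⁻¹ * ng hC (D.simple j) 1 := by
        rw [← hc, mul_inv_rev, inv_mul_cancel_right]
      rw [e, mul_assoc]
      exact hB _ (inv_mem (Subgroup.mem_sup_right (tor_mem_H hC c))) _ (hn j hj x hx)
  | one => intro x hx; rwa [one_mul]
  | mul y z _ _ hy hz =>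
    intro x hx
    rw [mul_assoc]
    exact hy _ (hz x hx)

/-- The order of a parabolic subgroup. -/
theorem card_parabolic [Fintype F] {J : List ℕ} {E : List (List ℕ)} (hE : WordList T J E) :
    Nat.card (D.parabolicSubgroup F {i | i ∈ J}) = Nat.card (D.borelSubgroup F) *
      (E.map fun e => Fintype.card F ^ negCount T e).sum := by
  classical
  have hEr : ∀ k : Fin E.length, ∀ i ∈ E[k.1], i < D.rank := fun k =>
    hE.rank_lt hC _ (List.getElem_mem k.2)
  let β : Fin E.length → Type _ := fun k =>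
    ↥(D.borelSubgroup F) × ↥(Uminus D F (tor D 1 * nL hC F E[k.1]))
  have hBP : D.borelSubgroup F ≤ D.parabolicSubgroup F {i | i ∈ J} := le_sup_left
  have hnP : ∀ k : Fin E.length,
      tor D 1 * nL hC F E[k.1] ∈ D.parabolicSubgroup F {i | i ∈ J} := fun k => by
    refine mul_mem (hBP (Subgroup.mem_sup_right (tor_mem_H hC 1))) (list_prod_mem fun x hx => ?_)
    obtain ⟨i, hi, rfl⟩ := List.mem_map.1 hx
    exact Subgroup.mem_sup_right (Subgroup.subset_closure
      ⟨i, hE.letters _ (List.getElem_mem k.2) i hi, hEr k i hi, coe_ng hC _ _⟩)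
  let f : (Σ k, β k) → D.parabolicSubgroup F {i | i ∈ J} := fun p =>
    ⟨(p.2.1 : GL D.Idx F) * (tor D 1 * nL hC F E[p.1.1]) * (p.2.2 : GL D.Idx F),
      mul_mem (mul_mem (hBP p.2.1.2) (hnP p.1))
        (hBP (Subgroup.mem_sup_left (Uminus_le_U hC _ p.2.2.2)))⟩
  have hn : ∀ k : Fin E.length, tor D 1 * nL hC F E[k.1] ∈ D.monomialSubgroup F := fun k =>
    (mem_N_iff hC).2 ⟨1, _, hEr k, rfl⟩
  have hf : Function.Bijective f := by
    constructor
    · rintro ⟨k, b, u⟩ ⟨k', b', u'⟩ h
      have h' := congrArg Subtype.val h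
      obtain ⟨h1, h2⟩ := unique_form hC b.2 b'.2 (hn k) (hn k') u.2 u'.2 h'
      obtain ⟨c, hc⟩ := (mem_H_iff hC).1 h1
      obtain ⟨c', hc'⟩ := nL_conj_tor (F := F) hC (hEr k) c
      have heq : Eqv D E[k.1] E[k'.1] := fun r hr => by
        refine (wL_congr hC (c := 1) (c' := c') (hEr k') (hEr k) ?_ hr).symm
        rw [← hc', ← hc, tor_one, one_mul, one_mul]
        group
      obtain rfl : k = k' := by
        have hi := simpleImg_of_eqv hC (hEr k) (hEr k') heq
        have h0 := List.nodup_iff_injective_getElem.1 hE.distinct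
          (a₁ := ⟨k.1, by rw [List.length_map]; exact k.2⟩)
          (a₂ := ⟨k'.1, by rw [List.length_map]; exact k'.2⟩)
          (by simpa using hi)
        exact Fin.ext (Fin.mk.inj_iff.1 h0)
      obtain ⟨hb, hu⟩ := h2 rfl
      rw [Subtype.ext hb, Subtype.ext hu]
    · rintro ⟨g, hg⟩
      obtain ⟨e, he, b, hb, b', hb', rfl⟩ := mem_cells hC hE hg
      obtain ⟨k, hk, rfl⟩ := List.getElem_of_mem he
      obtain ⟨w, hw, h, hh, rfl⟩ := (mem_B_iff hC).1 hb'
      -- move the torus part to the left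
      have hh' := H_conj hC (hn ⟨k, hk⟩) hh
      have hwU : h⁻¹ * w * h ∈ D.posUnipotent F := by
        simpa using (Subgroup.mem_normalizer_iff.1 (H_normalizes_U hC (inv_mem hh)) w).1 hw
      obtain ⟨v, u, hv, hu, hvu⟩ := U_decomp hC (hEr ⟨k, hk⟩) 1 hwU
      obtain ⟨n, hn'⟩ : ∃ n, n = tor D 1 * nL hC F E[k] := ⟨_, rfl⟩
      dsimp only at hv hu hh'
      rw [← hn'] at hh' hv hu
      refine ⟨⟨⟨k, hk⟩, ⟨b * (n * h * n⁻¹) * (n * v * n⁻¹), mul_mem (mul_mem hb
        (Subgroup.mem_sup_right hh')) (Subgroup.mem_sup_left hv)⟩, ⟨u, hn' ▸ hu⟩⟩, Subtype.ext ?_⟩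
      show b * (n * h * n⁻¹) * (n * v * n⁻¹) * (tor D 1 * nL hC F E[k]) * u =
        b * nL hC F E[k] * (w * h)
      rw [show nL hC F E[k] = n by rw [hn', tor_one, one_mul], tor_one, one_mul,
        show w * h = h * (h⁻¹ * w * h) by group, hvu]
      group
  rw [← Nat.card_congr (Equiv.ofBijective f hf), Nat.card_sigma]
  simp only [β, Nat.card_prod, Cfsg.Agent.Chevalley.Order.card_Uminus hC (hEr _), ← negCount_eq hC (hEr _)]
  rw [← Finset.mul_sum]
  congr 1
  conv_rhs => rw [← List.ofFn_getElem (xs := E), List.map_ofFn, List.sum_ofFn]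
  rfl

end Cfsg.Agent.SimpleFacts.BorelTits
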