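import Cfsg.Agent.SimpleFacts.BorelTits.Main
import Cfsg.Agent.SimpleFacts.BorelTits.ParabolicCard
import Cfsg.Agent.SimpleFacts.ChevalleyRadical
import Cfsg.Agent.Lib.Chevalley.Twist.F4
import Cfsg.Agent.Lib.Chevalley.Twist.CountF4
import Cfsg.Agent.Lib.Chevalley.Types.CoefF4
import Mathlib

/-!
Elements of `²F₄(q)` in a proper parabolic subgroup of `F₄(q)`: prime orders divide
`q (q⁴ - 1) (q³ - 1)`.
-/

set_option autoImplicit false
set_option linter.unusedSectionVars false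

open scoped Matrix

namespace Cfsg.Agent.SimpleFacts.BorelTits.TwistedF4

open Cfsg.Lie Cfsg.Agent.Chevalley.Table Cfsg.Agent.Chevalley.Check Cfsg.Agent.Chevalley.Cert
  Cfsg.Agent.Chevalley.Group Cfsg.Agent.Chevalley.Unip Cfsg.Agent.Chevalley.Borel
  Cfsg.Agent.Chevalley.Weyl Cfsg.Agent.Chevalley.Bruhat Cfsg.Agent.Chevalley.NormalForm
  Cfsg.Agent.Chevalley.Twist

abbrev hC : Certified chevF4 Cfsg.Agent.Chevalley.Data.F4.tab :=
  Cfsg.Agent.Chevalley.Types.F4.certified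

local notation "tabF" => Cfsg.Agent.Chevalley.Data.F4.tab

/-- The pairs of nodes with the words in them. -/
abbrev pairs : List (List ℕ × List (List ℕ)) :=
  [([0, 1], [[], [0], [1], [0, 1], [1, 0], [0, 1, 0]]),
    ([2, 3], [[], [2], [3], [2, 3], [3, 2], [2, 3, 2]]),
    ([1, 2], [[], [1], [2], [1, 2], [2, 1], [1, 2, 1], [2, 1, 2], [1, 2, 1, 2]]),
    ([0, 2], [[], [0], [2], [0, 2]]),
    ([0, 3], [[], [0], [3], [0, 3]]),
    ([1, 3], [[], [1], [3], [1, 3]])]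

theorem pairs_ok : ∀ p ∈ pairs,
    (∀ i ∈ p.1, i < (tabF).l) ∧ (∀ e ∈ p.2, ∀ i ∈ e, i ∈ p.1) ∧ [] ∈ p.2 ∧
      (∀ e ∈ p.2, ∀ i ∈ p.1, ∃ e' ∈ p.2, simpleImg tabF (i :: e) = simpleImg tabF e') ∧
      (p.2.map (simpleImg tabF)).Nodup ∧
      p.2.map (negCount tabF) = p.2.map List.length := by decide +kernel

theorem wordList_of_pair {p : List ℕ × List (List ℕ)} (hp : p ∈ pairs) :
    WordList tabF p.1 p.2 :=
  have h := pairs_ok p hp
  ⟨h.1, h.2.1, h.2.2.1, h.2.2.2.1, h.2.2.2.2.1⟩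

/-- A root is short. -/
abbrev isShort (r : ℕ) : Bool := Cfsg.Agent.Chevalley.Types.GAut.tabF4.e r == 2

theorem short_reflect : ∀ i < 4, ∀ r < 48,
    isShort ((tabF).refl i r) = isShort r := by decide +kernel

/-- The roots of a given length without `i` in their support. -/
noncomputable def lenCount (i : ℕ) (b : Bool) : ℕ :=
  ((Finset.range 48).filter fun r => (tabF).C r i = 0 ∧ isShort r = b).card

theorem not_iso : ∀ i < 4, lenCount (3 - i) true < lenCount i true ∨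
    lenCount (3 - i) false < lenCount i false := by decide +kernel

theorem rank_eq : chevF4.rank = 4 := rfl

theorem nroots_eq : chevF4.nroots = 48 := Cfsg.Agent.Chevalley.Twist.F4.roots_ok.2.2.2.2.2.2.2.2.2.2

theorem short_wL {L : List ℕ} (hL : ∀ i ∈ L, i < chevF4.rank) {r : ℕ} (hr : r < chevF4.nroots) :
    isShort (wL chevF4 L r) = isShort r := by
  induction L with
  | nil => rfl
  | cons i L ih =>
    have hi := hL i List.mem_cons_self
    have hL' : ∀ j ∈ L, j < chevF4.rank := fun j hj => hL j (List.mem_cons_of_mem i hj)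
    have hlt := wL_lt hC hL' hr
    show isShort (chevF4.reflectRoot i (wL chevF4 L r)) = _
    rw [hC.reflect_eq hi hlt, short_reflect i (rank_eq ▸ hi) _ (nroots_eq ▸ hlt), ih hL']

variable {K : Type*} [Field K] [Fintype K] [CharP K 2] {m : ℕ}

/-- Prime divisors of the order of `P_J`, `|J| ≤ 2`. -/
theorem prime_dvd_pair {p : List ℕ × List (List ℕ)} (hp : p ∈ pairs) {l : ℕ} (hl : l.Prime)
    {q : ℕ} (hq : Fintype.card K = q)
    (h : l ∣ Nat.card (chevF4.parabolicSubgroup K {i | i ∈ p.1})) :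
    l ∣ q ∨ l ∣ q ^ 4 - 1 ∨ l ∣ q ^ 3 - 1 := by
  have hq1 : 1 ≤ q := hq ▸ Fintype.card_pos
  obtain ⟨Z, hZ⟩ : ∃ Z, Z = q ^ 4 - 1 := ⟨_, rfl⟩
  have hm1 : q - 1 ∣ q ^ 4 - 1 := by simpa using Nat.sub_dvd_pow_sub_pow q 1 4
  have hs : q + 1 ∣ q ^ 4 - 1 := by
    refine ⟨(q - 1) * (q ^ 2 + 1), ?_⟩
    obtain ⟨c, rfl⟩ : ∃ c, q = c + 1 := ⟨q - 1, by omega⟩
    rw [Nat.add_sub_cancel]
    refine Nat.sub_eq_of_eq_add ?_
    ring
  have hs2 : q ^ 2 + 1 ∣ q ^ 4 - 1 := by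
    refine ⟨q ^ 2 - 1, ?_⟩
    obtain ⟨c, hc⟩ : ∃ c, q ^ 2 = c + 1 := ⟨q ^ 2 - 1, by have := Nat.one_le_pow 2 q hq1; omega⟩
    rw [show q ^ 4 = q ^ 2 * q ^ 2 by ring, hc, Nat.add_sub_cancel]
    refine Nat.sub_eq_of_eq_add ?_
    ring
  have hs3 : q ^ 2 + q + 1 ∣ q ^ 3 - 1 := by
    refine ⟨q - 1, ?_⟩
    obtain ⟨c, rfl⟩ : ∃ c, q = c + 1 := ⟨q - 1, by omega⟩
    rw [Nat.add_sub_cancel]
    refine Nat.sub_eq_of_eq_add ?_
    ring
  have hB : Nat.card (chevF4.borelSubgroup K) = q ^ 24 * (q - 1) ^ 4 := by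
    have hH := Cfsg.Agent.Chevalley.Types.OrderF4.card_H K
    rw [show (∏ i, Nat.gcd (Fintype.card K - 1) (Cfsg.Agent.Chevalley.Types.OrderF4.ed i)) = 1 by
      simp [Cfsg.Agent.Chevalley.Types.OrderF4.ed, Fin.prod_univ_four]] at hH
    rw [Cfsg.Agent.Chevalley.Order.card_B hC, Cfsg.Agent.Chevalley.Count.card_U hC,
      Cfsg.Agent.Chevalley.Count.card_posRoots hC, show chevF4.nroots / 2 = 24 by rw [nroots_eq],
      Nat.card_eq_fintype_card, hq,
      ← one_mul (Nat.card (chevF4.diagonalSubgroup K)), hH, hq]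
  rw [card_parabolic hC (wordList_of_pair hp), hB, hq] at h
  have hsum : (p.2.map fun e => q ^ negCount tabF e).sum = (p.2.map fun e => q ^ e.length).sum := by
    have := congrArg (fun l => (l.map fun k => q ^ k).sum) (pairs_ok p hp).2.2.2.2.2
    simpa [List.map_map, Function.comp_def] using this
  rw [hsum] at h
  have hfac : (p.2.map fun e => q ^ e.length).sum = (q + 1) ^ 2 ∨
      (p.2.map fun e => q ^ e.length).sum = (q + 1) * (q ^ 2 + q + 1) ∨
      (p.2.map fun e => q ^ e.length).sum = (q + 1) ^ 2 * (q ^ 2 + 1) := by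
    simp only [List.mem_cons, List.not_mem_nil, or_false] at hp
    rcases hp with rfl | rfl | rfl | rfl | rfl | rfl <;> simp
    · right; left; ring
    · right; left; ring
    · right; right; ring
    all_goals (left; ring)
  rcases hl.dvd_mul.1 h with h | h
  · rcases hl.dvd_mul.1 h with h | h
    · exact Or.inl (hl.dvd_of_dvd_pow h)
    · exact Or.inr (Or.inl ((hl.dvd_of_dvd_pow h).trans hm1))
  rcases hfac with e | e | e <;> rw [e] at h
  · exact Or.inr (Or.inl ((hl.dvd_of_dvd_pow h).trans hs))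
  · rcases hl.dvd_mul.1 h with h | h
    · exact Or.inr (Or.inl (h.trans hs))
    · exact Or.inr (Or.inr (h.trans hs3))
  · rcases hl.dvd_mul.1 h with h | h
    · exact Or.inr (Or.inl ((hl.dvd_of_dvd_pow h).trans hs))
    · exact Or.inr (Or.inl (h.trans hs2))

theorem parabolic_le_of_subset {J J' : Set ℕ} (h : ∀ i < chevF4.rank, i ∈ J → i ∈ J') :
    chevF4.parabolicSubgroup K J ≤ chevF4.parabolicSubgroup K J' :=
  sup_le_sup_left (Subgroup.closure_mono (by rintro _ ⟨j, hj, hjr, hg⟩; exact ⟨j, h j hjr hj, hjr, hg⟩)) _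

/-- At most two nodes, or exactly three. -/
theorem subset_cases {J : Set ℕ} (hJ : ∃ i, i < chevF4.rank ∧ i ∉ J) :
    (∃ p ∈ pairs, ∀ i < chevF4.rank, i ∈ J → i ∈ p.1) ∨
      ∃ i < 4, ∀ j < chevF4.rank, j ∈ J ↔ j ≠ i := by
  obtain ⟨i, hi, hiJ⟩ := hJ
  rw [rank_eq] at hi ⊢
  by_cases h3 : ∀ j < 4, j ≠ i → j ∈ J
  · exact Or.inr ⟨i, hi, fun j hj => ⟨fun h e => hiJ (e ▸ h), h3 j hj⟩⟩
  simp only [not_forall] at h3
  obtain ⟨k, hk, hki, hkJ⟩ := h3
  refine Or.inl ?_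
  have key : ∀ i ∈ List.range 4, ∀ k ∈ List.range 4, k = i ∨
      ∃ p ∈ pairs, ∀ j ∈ List.range 4, j = i ∨ j = k ∨ j ∈ p.1 := by decide +kernel
  obtain ⟨p, hp, h⟩ := (key i (List.mem_range.2 hi) k (List.mem_range.2 hk)).resolve_left hki
  exact ⟨p, hp, fun j hj hjJ => ((h j (List.mem_range.2 hj)).resolve_left
    fun e => hiJ (e ▸ hjJ)).resolve_left fun e => hkJ (e ▸ hjJ)⟩

variable {hK : Fintype.card K = 2 ^ (2 * m + 1)} (X : Cfsg.Agent.Chevalley.Twist.F4.Setup (K := K) hK)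
include X

theorem pi_eq {i : ℕ} (hi : i < 4) : X.S.π i = 3 - i := by
  rw [X.π_eq]
  revert i
  decide +kernel

theorem img_parabolic {J : Set ℕ} {g g' : GL chevF4.Idx K}
    (hg : g ∈ chevF4.parabolicSubgroup K J) (h : Img X.S g g') :
    g' ∈ chevF4.parabolicSubgroup K {j | ∃ i ∈ J, i < chevF4.rank ∧ X.S.π i = j} := by
  rw [ChevalleyDatum.parabolicSubgroup, ← Subgroup.closure_eq (chevF4.borelSubgroup K),
    ← Subgroup.closure_union] at hg
  rw [← Subgroup.closure_eq (chevF4.parabolicSubgroup K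
    {j | ∃ i ∈ J, i < chevF4.rank ∧ X.S.π i = j})]
  refine Img.closure (fun x hx => ?_) hg h
  rcases hx with hx | ⟨j, hj, hjr, hx⟩
  · obtain ⟨x', hx'⟩ := Img.exists_of_mem (S := X.S) (B_le_group hC hx)
    exact ⟨x', Subgroup.subset_closure (Subgroup.mem_sup_left (img_B X.S hx hx')), hx'⟩
  · rw [show x = ng hC (chevF4.simple j) 1 from Units.ext (hx.trans (coe_ng hC _ _).symm)]
    exact ⟨_, Subgroup.subset_closure (Cfsg.Agent.Chevalley.Parabolic.ng_mem_parabolic hC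
      (X.S.π_lt j hjr) ⟨j, hj, hjr, rfl⟩), img_n1 X.S hjr⟩

/-- A parabolic subgroup on three nodes can be refined at a fixed element. -/
theorem refine_step {g : GL chevF4.Idx K} (hg : g ∈ chevF4.group K) {J : Set ℕ} {i : ℕ}
    (hi : i < 4) (hJ : ∀ j < chevF4.rank, j ∈ J ↔ j ≠ i) {y : GL chevF4.Idx K}
    (hy : y ∈ Fx X.S) (hyP : g⁻¹ * y * g ∈ chevF4.parabolicSubgroup K J) :
    ∃ g₂ ∈ chevF4.group K, ∃ J₂ : Set ℕ, (∃ j, j < chevF4.rank ∧ j ∉ J₂) ∧
      g₂⁻¹ * y * g₂ ∈ chevF4.parabolicSubgroup K J₂ ∧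
      Nat.card (chevF4.unipotentRadical K J) < Nat.card (chevF4.unipotentRadical K J₂) := by
  classical
  have : Fact (Nat.Prime 2) := ⟨Nat.prime_two⟩
  obtain ⟨g', hg'⟩ := Img.exists_of_mem (S := X.S) hg
  obtain ⟨J', hJ'⟩ : ∃ J', J' = {j | ∃ k ∈ J, k < chevF4.rank ∧ X.S.π k = j} := ⟨_, rfl⟩
  have hyP' : g'⁻¹ * y * g' ∈ chevF4.parabolicSubgroup K J' :=
    hJ' ▸ img_parabolic X hyP ((hg'.inv.mul ((mem_Fx X.S).1 hy)).mul hg')
  have hnorm : ∀ J : Set ℕ, chevF4.parabolicSubgroup K J ≤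
      Subgroup.normalizer (chevF4.unipotentRadical K J : Set (GL chevF4.Idx K)) :=
    fun J => Cfsg.Agent.Chevalley.Parabolic.normalizes hC Cfsg.Agent.Chevalley.Types.CoefF4.coef_ok J
  have hrU : ∀ J : Set ℕ, chevF4.unipotentRadical K J ≤ chevF4.posUnipotent K :=
    ChevalleyRadical.radical_le_U hC
  have hrP : ∀ J : Set ℕ, chevF4.unipotentRadical K J ≤ chevF4.parabolicSubgroup K J :=
    fun J => (hrU J).trans (le_sup_left.trans le_sup_left)
  obtain ⟨R1, hR1⟩ : ∃ R1, R1 =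
      (chevF4.unipotentRadical K J).map (MulAut.conj g).toMonoidHom := ⟨_, rfl⟩
  obtain ⟨P1, hP1⟩ : ∃ P1, P1 =
      (chevF4.parabolicSubgroup K J).map (MulAut.conj g).toMonoidHom := ⟨_, rfl⟩
  obtain ⟨R2, hR2⟩ : ∃ R2, R2 =
      (chevF4.unipotentRadical K J').map (MulAut.conj g').toMonoidHom := ⟨_, rfl⟩
  have hN : ∀ (x : GL chevF4.Idx K) (J : Set ℕ),
      (chevF4.parabolicSubgroup K J).map (MulAut.conj x).toMonoidHom ≤ Subgroup.normalizer
        (((chevF4.unipotentRadical K J).map (MulAut.conj x).toMonoidHom :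
          Subgroup (GL chevF4.Idx K)) : Set (GL chevF4.Idx K)) := fun x J =>
    (Subgroup.map_mono (hnorm J)).trans (Subgroup.le_normalizer_map _)
  have hy1 : y ∈ P1 := hP1 ▸ Subgroup.mem_map.2 ⟨_, hyP, by simp [mul_assoc]⟩
  have hy2 : y ∈ Subgroup.normalizer (R2 : Set (GL chevF4.Idx K)) :=
    hR2 ▸ hN g' J' (Subgroup.mem_map.2 ⟨_, hyP', by simp [mul_assoc]⟩)
  have hy3 : y ∈ Subgroup.normalizer (R1 : Set (GL chevF4.Idx K)) := hR1 ▸ hN g J (hP1 ▸ hy1)
  have hy4 : y ∈ Subgroup.normalizer ((P1 ⊓ R2 : Subgroup (GL chevF4.Idx K)) :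
      Set (GL chevF4.Idx K)) := by
    have h1 : y ∈ Subgroup.normalizer (P1 : Set (GL chevF4.Idx K)) := Subgroup.le_normalizer hy1
    rw [Subgroup.mem_normalizer_iff] at h1 hy2 ⊢
    intro x
    simp only [Subgroup.mem_inf]
    exact and_congr (h1 x) (hy2 x)
  obtain ⟨Q, hQ⟩ : ∃ Q, Q = R1 ⊔ (P1 ⊓ R2) := ⟨_, rfl⟩
  have hp : ∀ (x : GL chevF4.Idx K) (J : Set ℕ),
      IsPGroup 2 ((chevF4.unipotentRadical K J).map (MulAut.conj x).toMonoidHom) := fun x J =>
    ((ChevalleyRadical.isPGroup_U (F := K) hC 2).to_le (hrU J)).map _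
  have hQp : IsPGroup 2 Q := by
    rw [hQ]
    refine IsPGroup.to_sup_of_normal_left' (hR1 ▸ hp g J)
      ((hR2 ▸ hp g' J' : IsPGroup 2 R2).to_le inf_le_right) ?_
    rw [hR1, hP1]
    exact inf_le_left.trans (hN g J)
  have hmapG : ∀ x ∈ chevF4.group K, ∀ H : Subgroup (GL chevF4.Idx K), H ≤ chevF4.group K →
      H.map (MulAut.conj x).toMonoidHom ≤ chevF4.group K := by
    rintro x hx H hH _ ⟨z, hz, rfl⟩
    simpa using mul_mem (mul_mem hx (hH hz)) (inv_mem hx)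
  have hUG : chevF4.posUnipotent K ≤ chevF4.group K := le_sup_left.trans (U_sup_V hC).le
  have hQG : Q ≤ chevF4.group K := by
    rw [hQ, hR1, hR2]
    exact sup_le (hmapG g hg _ ((hrU J).trans hUG))
      (inf_le_right.trans (hmapG g' (Img.mem' hg') _ ((hrU J').trans hUG)))
  -- the extra root
  obtain ⟨b, hb, n, hn, u, hu, e⟩ := exists_form hC (mul_mem (inv_mem hg) (Img.mem' hg'))
  obtain ⟨c, L, hL, rfl⟩ := (mem_N_iff hC).1 hn
  have hLr : ∀ k ∈ L.reverse, k < chevF4.rank := fun k hk => hL k (List.mem_reverse.1 hk)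
  obtain ⟨s, hs, hsp, hsJ', hsJ⟩ : ∃ s < chevF4.nroots, 0 < (tabF).phi s ∧
      ¬ chevF4.InRootSub J' s ∧ chevF4.InRootSub J (wL chevF4 L s) := by
    by_contra hcon
    simp only [not_exists, not_and] at hcon
    have hback : ∀ r < chevF4.nroots, wL chevF4 L (wL chevF4 L.reverse r) = r := fun r hr => by
      simpa using wL_reverse hC hLr hr
    have hsub : ∀ r, chevF4.InRootSub J r → chevF4.InRootSub J' (wL chevF4 L.reverse r) := by
      intro r hr
      have hlt := wL_lt hC hLr hr.1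
      rcases lt_or_gt_of_ne (hC.phi_ne_zero hlt) with h | h
      · have hlt' := hC.neg_lt hlt
        by_contra hbad
        refine hcon _ hlt' (by rw [hC.phi_neg hlt]; omega) (fun h' => hbad ⟨hlt, fun k hk hkJ => ?_⟩)
          ⟨wL_lt hC hL hlt', fun k hk hkJ => ?_⟩
        · have := h'.2 k hk hkJ
          rw [Cfsg.Agent.Chevalley.Parabolic.cor_eq hC, hC.cor_neg hlt hk, neg_eq_zero] at this
          exact this
        · rw [wL_neg hC hL hlt, hback r hr.1, Cfsg.Agent.Chevalley.Parabolic.cor_eq hC,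
            hC.cor_neg hr.1 hk, neg_eq_zero]
          exact hr.2 k hk hkJ
      · by_contra hbad
        exact hcon _ hlt h hbad (by rw [hback r hr.1]; exact hr)
    have hmemJ : ∀ r, r < 48 → (chevF4.InRootSub J r ↔ (tabF).C r i = 0) := by
      intro r hr
      have hr' : r < chevF4.nroots := nroots_eq ▸ hr
      have hC' : (tabF).C r i = cor chevF4 r i := hC.linked.C_eq r hr' i (rank_eq ▸ hi)
      rw [hC']
      refine ⟨fun h => h.2 i (rank_eq ▸ hi) (fun h' => (hJ i (rank_eq ▸ hi)).1 h' rfl),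
        fun h => ⟨hr', fun k hk hkJ => ?_⟩⟩
      have : k = i := by by_contra hne; exact hkJ ((hJ k hk).2 hne)
      subst this
      exact h
    have hπJ : ∀ j < chevF4.rank, j ∈ J' → j ≠ 3 - i := by
      intro j hj hjJ
      rw [hJ'] at hjJ
      obtain ⟨k, hk, hkr, rfl⟩ := hjJ
      have h1 := (hJ k hkr).1 hk
      rw [rank_eq] at hkr
      rw [pi_eq X hkr]
      omega
    have hle : ∀ b, lenCount i b ≤ lenCount (3 - i) b := by
      intro b
      refine Finset.card_le_card_of_injOn (wL chevF4 L.reverse) (fun r hr => ?_) (fun r hr r' hr' h => ?_)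
      · simp only [Finset.mem_coe, Finset.mem_filter, Finset.mem_range] at hr ⊢
        obtain ⟨hr, hr0, hrb⟩ := hr
        have hr' : r < chevF4.nroots := nroots_eq ▸ hr
        have hlt := wL_lt hC hLr hr'
        refine ⟨nroots_eq ▸ hlt, ?_, by rw [short_wL hLr hr']; exact hrb⟩
        rw [hC.linked.C_eq _ hlt (3 - i) (by rw [rank_eq]; omega)]
        exact (hsub r ((hmemJ r hr).2 hr0)).2 (3 - i) (by rw [rank_eq]; omega)
          (fun h' => hπJ _ (by rw [rank_eq]; omega) h' rfl)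
      · simp only [Finset.mem_coe, Finset.mem_filter, Finset.mem_range] at hr hr'
        rw [← hback r (nroots_eq ▸ hr.1), h, hback r' (nroots_eq ▸ hr'.1)]
    rcases not_iso i hi with h | h
    · exact absurd (hle true) (not_le.2 h)
    · exact absurd (hle false) (not_le.2 h)
  have hr := wL_lt hC hL hs
  have hlt : R1 < Q := by
    refine lt_of_le_of_ne (hQ ▸ le_sup_left) fun hEq => ?_
    obtain ⟨η, hη, hconj⟩ := conj_xg (F := K) hC hL c hs
    obtain ⟨z, hz⟩ : ∃ z, z = g * (b * xg hC (wL chevF4 L s) η * b⁻¹) * g⁻¹ := ⟨_, rfl⟩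
    have hxR : xg hC s (1 : K) ∈ chevF4.unipotentRadical K J' :=
      Subgroup.subset_closure ⟨s, 1, (hC.posRoot_iff hs).2 hsp, hsJ', coe_xg hC s 1⟩
    have hxP : xg hC (wL chevF4 L s) η ∈ chevF4.parabolicSubgroup K J :=
      Cfsg.Agent.Chevalley.Parabolic.qSub_le hC J (Subgroup.mem_sup_right
        (Subgroup.subset_closure ⟨_, η, Or.inr hsJ, coe_xg hC _ _⟩))
    have huP : u ∈ chevF4.parabolicSubgroup K J' :=
      Subgroup.mem_sup_left (Subgroup.mem_sup_left (Uminus_le_U hC _ hu))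
    have hz1 : z ∈ P1 := by
      rw [hP1, hz]
      exact Subgroup.mem_map.2 ⟨_, mul_mem (mul_mem (Subgroup.mem_sup_left hb) hxP)
        (inv_mem (Subgroup.mem_sup_left hb)), by simp⟩
    have hz2 : z ∈ R2 := by
      rw [hR2, hz]
      refine Subgroup.mem_map.2 ⟨u⁻¹ * xg hC s 1 * u, ?_, ?_⟩
      · simpa using (Subgroup.mem_normalizer_iff.1 (hnorm J' (inv_mem huP)) _).1 hxR
      · rw [MulEquiv.coe_toMonoidHom, MulAut.conj_apply, show g' = g * (g⁻¹ * g') by group, e,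
          ← mul_one η, ← hconj]
        group
    have hzR : z ∈ R1 := by rw [hEq, hQ]; exact Subgroup.mem_sup_right ⟨hz1, hz2⟩
    rw [hR1, hz] at hzR
    obtain ⟨w, hw, hwe⟩ := Subgroup.mem_map.1 hzR
    rw [MulEquiv.coe_toMonoidHom, MulAut.conj_apply] at hwe
    have hwe' : w = b * xg hC (wL chevF4 L s) η * b⁻¹ := mul_left_cancel (mul_right_cancel hwe)
    have h1 : xg hC (wL chevF4 L s) η ∈ chevF4.unipotentRadical K J := by
      have h2 := (Subgroup.mem_normalizer_iff.1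
        (hnorm J (inv_mem (Subgroup.mem_sup_left hb))) w).1 hw
      rw [hwe'] at h2
      simpa [mul_assoc] using h2
    exact (ChevalleyRadical.root_of_mem hC Cfsg.Agent.Chevalley.Types.CoefF4.coef_ok J hr hη h1).2
      hsJ
  have hne : Q ≠ ⊥ := fun h => not_lt_bot (h ▸ hlt)
  obtain ⟨g₂, hg₂, J₂, hJ₂, hnP, hQR⟩ :=
    borel_tits (F := K) 2 chevF4 (by simp) Q hQG hQp hne
  refine ⟨g₂, hg₂, J₂, hJ₂, ?_, ?_⟩
  · have hyQ : y ∈ Subgroup.normalizer (Q : Set (GL chevF4.Idx K)) := by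
      rw [Subgroup.mem_normalizer_iff_conj_image_eq] at hy3 hy4 ⊢
      rw [hQ]
      have e1 : R1.map (MulAut.conj y).toMonoidHom = R1 := SetLike.coe_injective hy3
      have e2 : (P1 ⊓ R2).map (MulAut.conj y).toMonoidHom = P1 ⊓ R2 := SetLike.coe_injective hy4
      have e3 := congrArg SetLike.coe
        (Subgroup.map_sup R1 (P1 ⊓ R2) (MulAut.conj y).toMonoidHom)
      rw [e1, e2] at e3
      exact e3
    obtain ⟨x, hx, hxe⟩ := Subgroup.mem_map.1 (hnP ⟨hyQ, Fx_le_group X.S hy⟩)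
    rw [MulEquiv.coe_toMonoidHom, MulAut.conj_apply] at hxe
    rw [← hxe]
    simpa [mul_assoc] using hx
  · have h1 : Nat.card R1 < Nat.card Q := Set.ncard_lt_ncard hlt (Set.toFinite _)
    have h2 : Nat.card Q ≤ Nat.card ((chevF4.unipotentRadical K J₂).map
        (MulAut.conj g₂).toMonoidHom) := Subgroup.card_le_of_le hQR
    have h3 : ∀ (x : GL chevF4.Idx K) (J : Set ℕ),
        Nat.card ((chevF4.unipotentRadical K J).map (MulAut.conj x).toMonoidHom) =
          Nat.card (chevF4.unipotentRadical K J) := fun x J =>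
      (Nat.card_congr (Subgroup.equivMapOfInjective _ _ (MulAut.conj x).injective).toEquiv).symm
    rw [hR1, h3] at h1
    rw [h3] at h2
    omega

/-- A fixed element in a proper parabolic lies in one of rank at most two. -/
theorem dvd_of_mem_parabolic {l : ℕ} [Fact l.Prime] {y : GL chevF4.Idx K} (hy : y ∈ Fx X.S)
    (ho : orderOf y = l) {g : GL chevF4.Idx K} (hg : g ∈ chevF4.group K) {J : Set ℕ}
    (hJ : ∃ i, i < chevF4.rank ∧ i ∉ J) (hyP : g⁻¹ * y * g ∈ chevF4.parabolicSubgroup K J)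
    {q : ℕ} (hq : Fintype.card K = q) : l ∣ q ∨ l ∣ q ^ 4 - 1 ∨ l ∣ q ^ 3 - 1 := by
  suffices key : ∀ k, ∀ g ∈ chevF4.group K, ∀ J : Set ℕ, (∃ i, i < chevF4.rank ∧ i ∉ J) →
      g⁻¹ * y * g ∈ chevF4.parabolicSubgroup K J →
      Nat.card (GL chevF4.Idx K) < Nat.card (chevF4.unipotentRadical K J) + k →
      l ∣ q ∨ l ∣ q ^ 4 - 1 ∨ l ∣ q ^ 3 - 1 from
    key (Nat.card (GL chevF4.Idx K) + 1) g hg J hJ hyP (by omega)
  intro k
  induction k with
  | zero =>
    intro g _ J _ _ h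
    have := Subgroup.card_le_card_group (chevF4.unipotentRadical K J)
    omega
  | succ k ih =>
    intro g hg J hJ hyP h
    rcases subset_cases hJ with ⟨p, hp, hsub⟩ | ⟨i, hi, hiJ⟩
    · refine prime_dvd_pair hp (Fact.out) hq ?_
      have hmem : g⁻¹ * y * g ∈ chevF4.parabolicSubgroup K {i | i ∈ p.1} :=
        parabolic_le_of_subset (fun i hi hiJ => hsub i hi hiJ) hyP
      have ho' : orderOf (⟨_, hmem⟩ : chevF4.parabolicSubgroup K {i | i ∈ p.1}) = l := by
        rw [← Subgroup.orderOf_coe]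
        show orderOf (g⁻¹ * y * g) = l
        rw [← ho]
        calc orderOf (g⁻¹ * y * g) = orderOf (MulAut.conj g⁻¹ y) := by simp [mul_assoc]
          _ = orderOf y := MulEquiv.orderOf_eq _ y
      exact ho' ▸ orderOf_dvd_natCard _
    · obtain ⟨g₂, hg₂, J₂, hJ₂, hy₂, hlt⟩ := refine_step X hg hi hiJ hy hyP
      exact ih g₂ hg₂ J₂ hJ₂ hy₂ (by omega)

end Cfsg.Agent.SimpleFacts.BorelTits.TwistedF4
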